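import Mathlib

/-!
# Algebra for glueing along a closed subscheme: localization at `1 + J`, torsion in flat modules
-/

set_option autoImplicit false

universe u

open TensorProduct

namespace GlueSepLib

variable {A B : Type u} [CommRing A] [CommRing B] [Algebra A B]

/-- The multiplicative set `1 + J`. -/
def oneAdd (J : Ideal B) : Submonoid B := (⊥ : Submonoid (B ⧸ J)).comap (Ideal.Quotient.mk J)

/-- A prime containing `J` misses `1 + J`. -/
theorem disjoint_oneAdd {J Q : Ideal B} [Q.IsPrime] (h : J ≤ Q) : Disjoint (oneAdd J : Set B) (Q : Set B) := by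
  refine Set.disjoint_left.2 fun x hx hxQ => ?_
  have h1 : Ideal.Quotient.mk J x = 1 := Submonoid.mem_bot.1 hx
  rw [← map_one (Ideal.Quotient.mk J), Ideal.Quotient.eq] at h1
  exact ‹Q.IsPrime›.ne_top ((Ideal.eq_top_iff_one Q).2 (by simpa using Q.sub_mem hxQ (h h1)))

/-- A maximal ideal of the localization at `1 + J` contains `J`. -/
theorem le_comap_maximal (J : Ideal B) (P : Ideal (Localization (oneAdd J))) [hP : P.IsMaximal] :
    J ≤ P.comap (algebraMap B (Localization (oneAdd J))) := by
  intro j hj
  by_contra hn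
  obtain ⟨b, i, hi, hb⟩ := hP.exists_inv (x := algebraMap B (Localization (oneAdd J)) j) hn
  obtain ⟨⟨c, t⟩, hc⟩ := IsLocalization.surj (oneAdd J) b
  have e : i * algebraMap B (Localization (oneAdd J)) (t : B) =
      algebraMap B (Localization (oneAdd J)) ((t : B) - c * j) := by
    rw [map_sub, map_mul, ← hc]
    linear_combination (algebraMap B (Localization (oneAdd J)) (t : B)) * hb
  have hu : IsUnit (algebraMap B (Localization (oneAdd J)) ((t : B) - c * j)) := by
    refine IsLocalization.map_units (Localization (oneAdd J)) (⟨_, ?_⟩ : oneAdd J)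
    have ht : Ideal.Quotient.mk J (t : B) = 1 := Submonoid.mem_bot.1 t.2
    refine Submonoid.mem_bot.2 ?_
    rw [map_sub, map_mul, ht, Ideal.Quotient.eq_zero_iff_mem.2 hj, mul_zero, sub_zero]
  exact hP.ne_top (P.eq_top_of_isUnit_mem (P.mul_mem_right _ hi) (e ▸ hu))

/-- If `B` is flat over `A` at the primes containing `J`, its localization at `1 + J` is flat over `A`. -/
theorem flat_localization_oneAdd (J : Ideal B)
    (h : ∀ (Q : Ideal B) [Q.IsPrime], J ≤ Q →
      (Localization.localRingHom (Q.comap (algebraMap A B)) Q (algebraMap A B) rfl).Flat) :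
    Module.Flat A (Localization (oneAdd J)) := by
  refine Module.flat_of_isLocalized_maximal (Localization (oneAdd J)) (Localization (oneAdd J))
    (fun P _ => Localization.AtPrime P) (fun P _ => Algebra.linearMap _ _) fun P hP => ?_
  let Q := P.comap (algebraMap B (Localization (oneAdd J)))
  have h1 := h Q (le_comap_maximal J P)
  have h2 : (Localization.localRingHom (Q.comap (algebraMap A B)) Q (algebraMap A B) rfl).comp
      (algebraMap A (Localization.AtPrime (Q.comap (algebraMap A B)))) = algebraMap A (Localization.AtPrime Q) := by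
    ext a
    simp [Localization.localRingHom_to_map, ← IsScalarTower.algebraMap_apply]
  have h3 : Module.Flat A (Localization.AtPrime Q) := by
    rw [← RingHom.flat_algebraMap_iff, ← h2]
    exact RingHom.Flat.comp (RingHom.flat_algebraMap_iff.2 (IsLocalization.flat _ (Q.comap (algebraMap A B)).primeCompl)) h1
  exact Module.Flat.of_linearEquiv
    ((IsLocalization.localizationLocalizationAtPrimeIsoLocalization (oneAdd J) P).restrictScalars A).toLinearEquiv.symm

variable {L C : Type u} [CommRing L] [Algebra A L] [CommRing C] [Algebra A C] (φ : L →ₐ[A] C)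

/-- Tensoring with a module killed by `I` sees `L` only through `L ⊗ A/I`. -/
theorem rTensor_injective_of_smul_eq_zero (I : Ideal A)
    (hff : (Algebra.TensorProduct.map φ (AlgHom.id A (A ⧸ I))).toRingHom.FaithfullyFlat)
    (M : Type u) [AddCommGroup M] [Module A M] (hM : ∀ i ∈ I, ∀ m : M, i • m = 0) :
    Function.Injective (φ.toLinearMap.rTensor M) := by
  let e : (A ⧸ I) ⊗[A] M ≃ₗ[A] M := (TensorProduct.quotTensorEquivQuotSMul M I).trans
    ((Submodule.quotEquivOfEqBot _ (by
      refine eq_bot_iff.2 (Submodule.smul_le.2 fun i hi m _ => ?_)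
      rw [hM i hi m]; exact zero_mem _)))
  let g : L ⊗[A] (A ⧸ I) →+* C ⊗[A] (A ⧸ I) := (Algebra.TensorProduct.map φ (AlgHom.id A (A ⧸ I))).toRingHom
  change g.FaithfullyFlat at hff
  algebraize [g]
  haveI : IsScalarTower A (L ⊗[A] (A ⧸ I)) (C ⊗[A] (A ⧸ I)) :=
    IsScalarTower.of_algebraMap_eq fun a =>
      ((Algebra.TensorProduct.map φ (AlgHom.id A (A ⧸ I))).commutes a).symm
  have hinj := Module.FaithfullyFlat.tensorProduct_mk_injective (A := L ⊗[A] (A ⧸ I)) (B := C ⊗[A] (A ⧸ I))
    ((L ⊗[A] (A ⧸ I)) ⊗[A] M)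
  let α := AlgebraTensorModule.cancelBaseChange A (L ⊗[A] (A ⧸ I)) (C ⊗[A] (A ⧸ I)) (C ⊗[A] (A ⧸ I)) M
  let eL := (TensorProduct.assoc A L (A ⧸ I) M).trans (e.lTensor L)
  let eC := (TensorProduct.assoc A C (A ⧸ I) M).trans (e.lTensor C)
  have key : φ.toLinearMap.rTensor M ∘ eL = eC ∘ α ∘
      (fun x => (1 : C ⊗[A] (A ⧸ I)) ⊗ₜ[L ⊗[A] (A ⧸ I)] x) := by
    funext x
    induction x using TensorProduct.induction_on with
    | zero => simp
    | add x y hx hy => simp only [Function.comp_apply] at hx hy ⊢; simp [map_add, TensorProduct.tmul_add, hx, hy]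
    | tmul y m =>
      induction y using TensorProduct.induction_on with
      | zero => simp
      | add y z hy hz =>
        simp only [Function.comp_apply] at hy hz ⊢
        simp [map_add, TensorProduct.add_tmul, TensorProduct.tmul_add, hy, hz]
      | tmul l q =>
        simp only [Function.comp_apply, α, AlgebraTensorModule.cancelBaseChange_tmul]
        rw [Algebra.smul_def, mul_one]
        change φ.toLinearMap.rTensor M (e.lTensor L (l ⊗ₜ[A] (q ⊗ₜ[A] m))) = eC ((φ l ⊗ₜ[A] q) ⊗ₜ[A] m)
        rfl
  exact Function.Injective.of_comp_right (key ▸ eC.injective.comp (α.injective.comp hinj)) eL.surjective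

/-- The same for modules killed by a power of `I`, when `C` is flat. -/
theorem rTensor_injective_of_pow_smul_eq_zero [Module.Flat A C] (I : Ideal A)
    (hff : (Algebra.TensorProduct.map φ (AlgHom.id A (A ⧸ I))).toRingHom.FaithfullyFlat) (n : ℕ) :
    ∀ (M : Type u) [AddCommGroup M] [Module A M], (∀ i ∈ I ^ n, ∀ m : M, i • m = 0) →
      Function.Injective (φ.toLinearMap.rTensor M) := by
  induction n with
  | zero =>
    intro M _ _ hM
    haveI : Subsingleton M := ⟨fun x y => by
      have h := fun m : M => hM 1 (by simp) m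
      simp only [one_smul] at h
      rw [h x, h y]⟩
    exact Function.injective_of_subsingleton _
  | succ n ih =>
    intro M _ _ hM
    let N : Submodule A M := I • ⊤
    have hN : ∀ i ∈ I ^ n, ∀ m : N, i • m = 0 := by
      rintro i hi ⟨m, hm⟩
      refine Subtype.ext ?_
      change i • m = 0
      refine Submodule.smul_induction_on hm (fun j hj x _ => ?_) (fun x y hx hy => by simp [smul_add, hx, hy])
      rw [smul_smul]
      exact hM _ (by rw [pow_succ]; exact Ideal.mul_mem_mul hi hj) x
    have hQ : ∀ i ∈ I, ∀ m : M ⧸ N, i • m = 0 := by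
      rintro i hi ⟨m⟩
      exact (Submodule.Quotient.mk_eq_zero N).2 (Submodule.smul_mem_smul hi trivial)
    refine (injective_iff_map_eq_zero _).2 fun x hx => ?_
    have hxq : N.mkQ.lTensor L x = 0 := rTensor_injective_of_smul_eq_zero φ I hff _ hQ (by
      rw [map_zero, ← LinearMap.comp_apply, LinearMap.rTensor_comp_lTensor, ← LinearMap.lTensor_comp_rTensor,
        LinearMap.comp_apply, hx, map_zero])
    obtain ⟨y, rfl⟩ := (lTensor_exact L (LinearMap.exact_subtype_mkQ N) N.mkQ_surjective x).1 hxq
    rw [← LinearMap.comp_apply, LinearMap.rTensor_comp_lTensor, ← LinearMap.lTensor_comp_rTensor,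
      LinearMap.comp_apply] at hx
    have := Module.Flat.lTensor_preserves_injective_linearMap (M := C) N.subtype N.injective_subtype
      (hx.trans (map_zero _).symm)
    rw [ih N hN (this.trans (map_zero _).symm), map_zero]

/-- An element of a flat algebra killed by a power of `I` vanishes if its image in `C` does. -/
theorem eq_zero_of_pow_smul [Module.Flat A L] [Module.Flat A C] (I : Ideal A) (hI : I.FG)
    (hff : (Algebra.TensorProduct.map φ (AlgHom.id A (A ⧸ I))).toRingHom.FaithfullyFlat)
    (k : L) (n : ℕ) (hk : ∀ i ∈ I ^ n, algebraMap A L i * k = 0) (hφ : φ k = 0) : k = 0 := by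
  obtain ⟨s, hs⟩ := hI.pow (n := n)
  let ψ : A →ₗ[A] (↥s → A) := LinearMap.pi fun g => LinearMap.mul A A (g : A)
  let N : Submodule A A := LinearMap.ker ψ
  have hN : ∀ i ∈ I ^ n, ∀ m : N, i • m = 0 := by
    rintro i hi ⟨m, hm⟩
    refine Subtype.ext ?_
    change i * m = 0
    rw [← hs] at hi
    refine Submodule.span_induction (p := fun x _ => x * m = 0) (fun g hg => congrFun hm ⟨g, hg⟩) (zero_mul m)
      (fun x y _ _ hx hy => by rw [add_mul, hx, hy, zero_add])
      (fun a x _ hx => by rw [smul_eq_mul, mul_assoc, hx, mul_zero]) hi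
  classical
  let x : L ⊗[A] A := k ⊗ₜ 1
  have hx : ψ.lTensor L x = 0 := by
    apply (TensorProduct.piScalarRight A A L ↥s).injective
    funext g
    have h0 := hk g (hs ▸ Submodule.subset_span g.2)
    simpa [x, ψ, TensorProduct.piScalarRightHomBil, Algebra.smul_def] using h0
  obtain ⟨y, hy⟩ := (Module.Flat.lTensor_exact L (LinearMap.exact_subtype_ker_map ψ) x).1 hx
  have h0 : φ.toLinearMap.rTensor N y = 0 := by
    refine Module.Flat.lTensor_preserves_injective_linearMap (M := C) N.subtype N.injective_subtype ?_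
    rw [map_zero, ← LinearMap.comp_apply, LinearMap.lTensor_comp_rTensor, ← LinearMap.rTensor_comp_lTensor,
      LinearMap.comp_apply, hy]
    simp [x, hφ]
  have : y = 0 := rTensor_injective_of_pow_smul_eq_zero φ I hff n N hN (h0.trans (map_zero _).symm)
  rw [this, map_zero] at hy
  have := congrArg (TensorProduct.rid A L) hy.symm
  simpa [x] using this

end GlueSepLib
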