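import Groth.Agent.GlueSepLib.Cover

/-!
# Base change of adapted flat covers
-/

set_option autoImplicit false
set_option backward.isDefEq.respectTransparency false
set_option backward.isDefEq.respectTransparency.types false

universe u

open CategoryTheory CategoryTheory.Limits AlgebraicGeometry Opposite AlgSp Topology

namespace GlueSepLib

variable {S : Scheme.{u}} {X Y Z : Sp S} {f : Y ⟶ X} {i : Z ⟶ X} {V V' : Over S} {v : (yon S).obj V ⟶ X}

/-- An adapted cover pulls back along a morphism of affine schemes. -/
noncomputable def Cover.baseChange (K : Cover f i v) [IsAffine V.left] [IsAffine V'.left] (g : V' ⟶ V) :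
    Cover f i ((yon S).map g ≫ v) := by
  haveI := K.closed; haveI := K.lfp; haveI := K.affR; haveI := K.affC; haveI := K.flat
  let α := pullback.fst K.r g
  let r' := pullback.snd K.r g
  have sqa : IsPullback α r' K.r g := IsPullback.of_hasPullback K.r g
  let m : pullback r' r' ⟶ pullback K.r K.r :=
    pullback.lift (pullback.fst r' r' ≫ α) (pullback.snd r' r' ≫ α) (by
      rw [Category.assoc, Category.assoc, sqa.w, pullback.condition_assoc])
  have big := (IsPullback.of_hasPullback r' r').flip.paste_horiz sqa
  have sqm : IsPullback m (pullback.fst r' r') (pullback.fst K.r K.r) α :=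
    IsPullback.of_right (by rw [pullback.lift_snd, sqa.w]; exact big) (pullback.lift_fst _ _ _)
      (IsPullback.of_hasPullback K.r K.r).flip
  have sqC := (IsPullback.of_hasPullback K.c m).paste_vert (sqm.paste_vert sqa)
  haveI : IsAffine (pullback K.r g).left := IsAffine.of_isIso (AlgSpLib.left_isPullback K.r g).isoPullback.hom
  haveI : IsAffine (pullback r' r').left := IsAffine.of_isIso (AlgSpLib.left_isPullback r' r').isoPullback.hom
  haveI : IsAffine (pullback K.r K.r).left :=
    IsAffine.of_isIso (AlgSpLib.left_isPullback K.r K.r).isoPullback.hom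
  refine {
    ZV := pullback K.zi g
    zi := pullback.snd K.zi g
    z := (yon S).map (pullback.fst K.zi g) ≫ K.z
    sqZ := ((IsPullback.of_hasPullback K.zi g).map (yon S)).paste_horiz K.sqZ
    closed := MorphismProperty.of_isPullback (P := @IsClosedImmersion) (AlgSpLib.left_isPullback K.zi g) K.closed
    lfp := MorphismProperty.of_isPullback (P := @LocallyOfFinitePresentation)
      (AlgSpLib.left_isPullback K.zi g) K.lfp
    R := pullback K.r g
    affR := inferInstance
    r := r'
    flat := MorphismProperty.of_isPullback (P := @Flat) (AlgSpLib.left_isPullback K.r g) K.flat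
    l := (yon S).map α ≫ K.l
    hl := by rw [Category.assoc, K.hl, ← Functor.map_comp_assoc, sqa.w, Functor.map_comp_assoc]
    surjZ := ?_
    C := pullback K.c m
    affC := IsAffine.of_isIso (AlgSpLib.left_isPullback K.c m).isoPullback.hom
    c := pullback.snd K.c m
    flatC := MorphismProperty.of_isPullback (P := @Flat) (sqC.map (Over.forget S)) K.flatC
    eqC := ?_
    ff := ?_ }
  · rintro x ⟨w, rfl⟩
    obtain ⟨y, hy⟩ := K.surjZ ⟨(pullback.fst K.zi g).left w, rfl⟩
    have e : K.r.left y = g.left ((pullback.snd K.zi g).left w) := by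
      rw [hy, ← Scheme.Hom.comp_apply, ← Scheme.Hom.comp_apply, ← Over.comp_left, ← Over.comp_left,
        pullback.condition]
    obtain ⟨p, -, hp⟩ := Scheme.Pullback.exists_preimage_pullback (f := K.r.left) (g := g.left) y _ e
    refine ⟨(AlgSpLib.left_isPullback K.r g).isoPullback.inv p, ?_⟩
    rw [← hp, ← Scheme.Hom.comp_apply, IsPullback.isoPullback_inv_snd]
  · have e1 : (pullback.snd K.c m ≫ pullback.fst r' r') ≫ α = pullback.fst K.c m ≫ K.c ≫ pullback.fst K.r K.r := by
      rw [pullback.condition_assoc, pullback.lift_fst, Category.assoc]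
    have e2 : (pullback.snd K.c m ≫ pullback.snd r' r') ≫ α = pullback.fst K.c m ≫ K.c ≫ pullback.snd K.r K.r := by
      rw [pullback.condition_assoc, pullback.lift_snd, Category.assoc]
    rw [← Functor.map_comp_assoc, ← Functor.map_comp_assoc, e1, e2, Functor.map_comp_assoc, K.eqC,
      ← Functor.map_comp_assoc]
  · rintro T t ⟨a, ha⟩
    have hm : (pullback.fst r' r' ≫ r' ≫ g : _ ⟶ V) = m ≫ pullback.fst K.r K.r ≫ K.r := by
      rw [pullback.lift_fst_assoc, Category.assoc, sqa.w]
    have key : (a ≫ (pullback.fst K.zi g).left) ≫ K.zi.left =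
        (t ≫ m.left) ≫ (pullback.fst K.r K.r ≫ K.r).left := by
      have hm' := congrArg Over.Hom.left hm
      have hc := congrArg Over.Hom.left (pullback.condition (f := K.zi) (g := g))
      simp only [Over.comp_left, Category.assoc] at hm' hc ha ⊢
      rw [hc, reassoc_of% ha, hm']
    obtain ⟨hfl, hsu⟩ := K.ff T (t ≫ m.left) ⟨_, key⟩
    have sq := (IsPullback.of_hasPullback (pullback.snd K.c m).left t).flip.paste_vert
      (AlgSpLib.left_isPullback K.c m).flip
    haveI := hfl; haveI := hsu
    rw [← sq.flip.isoPullback_hom_snd]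
    exact ⟨inferInstance, inferInstance⟩

end GlueSepLib
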