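import Groth.Agent.GlueSepLib.Cover
import Groth.Agent.AlgSpLib.Sep
import Groth.Agent.AlgSpLib.LocP
import Groth.Agent.AlgSpLib.MorPack

/-!
# Existence of adapted flat covers on etale charts
-/

set_option autoImplicit false
set_option backward.isDefEq.respectTransparency false
set_option backward.isDefEq.respectTransparency.types false

universe u

open CategoryTheory CategoryTheory.Limits AlgebraicGeometry Opposite AlgSp Topology

namespace GlueSepLib

/-- The localization of an affine scheme at `1 + J`. -/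
theorem exists_localization_flat {E V ZV : Scheme.{u}} [IsAffine E] [IsAffine V] (h : E ⟶ V) (zi : ZV ⟶ V)
    [IsClosedImmersion zi] (hflat : ∀ y : E, h y ∈ Set.range zi → (h.stalkMap y).hom.Flat) :
    ∃ (R : Scheme.{u}) (r₀ : R ⟶ E), IsAffine R ∧ Flat r₀ ∧ Flat (r₀ ≫ h) ∧
      ∀ y : E, h y ∈ Set.range zi → y ∈ Set.range r₀ := by
  obtain ⟨I, eI, hI⟩ := IsClosedImmersion.Spec_iff.1 (inferInstance : IsClosedImmersion (zi ≫ V.isoSpec.hom))
  let ψ := h.appTop
  algebraize [ψ.hom]
  let J : Ideal Γ(E, ⊤) := I.map ψ.hom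
  have hnat : h ≫ V.isoSpec.hom = E.isoSpec.hom ≫ Spec.map ψ := (Scheme.isoSpec_hom_naturality h).symm
  have hmem : ∀ y : E, h y ∈ Set.range zi ↔ J ≤ (E.isoSpec.hom y).asIdeal := by
    intro y
    have h1 : h y ∈ Set.range zi ↔ (V.isoSpec.hom (h y)) ∈ Set.range (zi ≫ V.isoSpec.hom) := by
      rw [Scheme.Hom.comp_base, TopCat.coe_comp, Set.range_comp]
      exact ((Scheme.homeoOfIso V.isoSpec).injective.mem_set_image).symm
    have h2 : Set.range (zi ≫ V.isoSpec.hom) = PrimeSpectrum.zeroLocus (I : Set Γ(V, ⊤)) := by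
      rw [hI, Scheme.Hom.comp_base, TopCat.coe_comp, Set.range_comp, eI.hom.surjective.range_eq, Set.image_univ]
      exact (range_comap_of_surjective _ _ Ideal.Quotient.mk_surjective).trans (by rw [Ideal.mk_ker])
    rw [h1, h2, ← Scheme.Hom.comp_apply, hnat, Scheme.Hom.comp_apply]
    exact Ideal.map_le_iff_le_comap.symm
  let R : Scheme.{u} := Spec (CommRingCat.of (Localization (oneAdd J)))
  let r₀ : R ⟶ E := Spec.map (CommRingCat.ofHom (algebraMap Γ(E, ⊤) (Localization (oneAdd J)))) ≫ E.isoSpec.inv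
  have hr₀ : Flat (Spec.map (CommRingCat.ofHom (algebraMap Γ(E, ⊤) (Localization (oneAdd J))))) :=
    (HasRingHomProperty.Spec_iff (P := @Flat)).2
      (RingHom.flat_algebraMap_iff.2 (IsLocalization.flat _ (oneAdd J)))
  haveI : Module.Flat Γ(V, ⊤) (Localization (oneAdd J)) := by
    refine flat_localization_oneAdd J fun Q hQ hJQ => ?_
    let y : E := E.isoSpec.inv ⟨Q, hQ⟩
    have hy : E.isoSpec.hom y = ⟨Q, hQ⟩ := (Scheme.homeoOfIso E.isoSpec).apply_symm_apply _
    have hy' := hflat y ((hmem y).2 (by rw [hy]; exact hJQ))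
    have hg : Spec.map ψ = E.isoSpec.inv ≫ h ≫ V.isoSpec.hom := by rw [hnat, Iso.inv_hom_id_assoc]
    have h3 : ((Spec.map ψ).stalkMap (⟨Q, hQ⟩ : PrimeSpectrum Γ(E, ⊤))).hom.Flat := by
      rw [Scheme.Hom.stalkMap_congr_hom _ _ hg, Scheme.Hom.stalkMap_comp, Scheme.Hom.stalkMap_comp]
      simp only [CommRingCat.hom_comp]
      refine RingHom.Flat.comp (RingHom.Flat.of_bijective (ConcreteCategory.bijective_of_isIso _)) ?_
      refine RingHom.Flat.comp (RingHom.Flat.comp
        (RingHom.Flat.of_bijective (ConcreteCategory.bijective_of_isIso _)) hy') ?_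
      exact RingHom.Flat.of_bijective (ConcreteCategory.bijective_of_isIso _)
    exact (RingHom.Flat.respectsIso.arrow_mk_iso_iff (Scheme.arrowStalkMapSpecIso ψ ⟨Q, hQ⟩)).1 h3
  refine ⟨R, r₀, inferInstance, ?_, ?_, fun y hy => ?_⟩
  · haveI := hr₀; infer_instance
  · have e : r₀ ≫ h = Spec.map (CommRingCat.ofHom (algebraMap Γ(V, ⊤) (Localization (oneAdd J)))) ≫ V.isoSpec.inv := by
      rw [Iso.eq_comp_inv, Category.assoc, hnat, Category.assoc, Iso.inv_hom_id_assoc, ← Spec.map_comp]
      exact congrArg Spec.map (CommRingCat.hom_ext (RingHom.ext fun a =>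
        (IsScalarTower.algebraMap_apply Γ(V, ⊤) Γ(E, ⊤) (Localization (oneAdd J)) a).symm))
    rw [e]
    haveI : Flat (Spec.map (CommRingCat.ofHom (algebraMap Γ(V, ⊤) (Localization (oneAdd J))))) :=
      (HasRingHomProperty.Spec_iff (P := @Flat)).2 (RingHom.flat_algebraMap_iff.2 inferInstance)
    infer_instance
  · obtain ⟨p, hp⟩ := (PrimeSpectrum.localization_comap_range (Localization (oneAdd J)) (oneAdd J)).ge
      (show Disjoint (oneAdd J : Set Γ(E, ⊤)) (E.isoSpec.hom y).asIdeal from disjoint_oneAdd ((hmem y).1 hy))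
    refine ⟨p, ?_⟩
    change E.isoSpec.inv (PrimeSpectrum.comap _ p) = y
    erw [hp]
    exact (Scheme.homeoOfIso E.isoSpec).symm_apply_apply y

variable {S : Scheme.{u}}

theorem ofPt_map_map {F G : Sp S} {T : Over S} (a : (yon S).obj T ⟶ F) (g : F ⟶ G) (t : T.left) :
    Points.map g (Points.ofPt a t) = Points.ofPt (a ≫ g) t := rfl

variable {X Y Z FZ : Sp S}

/-- Adapted covers exist on etale affine charts. -/
theorem exists_cover (hX : IsAlgSpace X) (hY : IsAlgSpace Y) {f : Y ⟶ X} {i : Z ⟶ X}
    (hqc : IsQuasiCompactMor f) (hqs : IsQuasiSeparatedMor f) (hi : RepWith @IsClosedImmersion i)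
    (hifp : LocP @LocallyOfFinitePresentation i) {iY : FZ ⟶ Y} {fZ : FZ ⟶ Z} (hFZ : IsPullback iY fZ f i)
    [IsIso fZ] (hflat : ∀ y ∈ Set.range (Points.map iY), IsFlatAtMor f y)
    (V : Over S) [IsAffine V.left] (v : (yon S).obj V ⟶ X) (hv : RepWith @Etale v) :
    ∃ (K : Cover f i v) (E : Over S) (h : E ⟶ V) (a : (yon S).obj E ⟶ Y) (p : (yon S).obj E ⟶ pullback f v)
      (ρ : K.R ⟶ E), IsAffine E.left ∧ RepWith @Etale p ∧ RepWith @Surjective p ∧
        p ≫ pullback.snd f v = (yon S).map h ∧ p ≫ pullback.fst f v = a ∧ ρ ≫ h = K.r ∧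
        (yon S).map ρ ≫ a = K.l ∧ Flat ρ.left ∧
        ∀ y : E.left, h.left y ∈ Set.range K.zi.left → y ∈ Set.range ρ.left := by
  -- the closed part
  obtain ⟨ZV, zi, z, sqZ, hclosed⟩ : ∃ (ZV : Over S) (zi : ZV ⟶ V) (z : (yon S).obj ZV ⟶ Z),
      IsPullback z ((yon S).map zi) i v ∧ IsClosedImmersion zi.left :=
    ⟨_, _, _, hi.rep.isPullback v, hi.property_snd v⟩
  have hlfp : LocallyOfFinitePresentation zi.left :=
    hifp z v zi (AlgSpLib.repWith_of_isPullback sqZ.flip hv) hv sqZ.w
  haveI := hclosed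
  -- the chart of the fibre product
  have sqP := IsPullback.of_hasPullback f v
  obtain ⟨E, p, hE, hp, hps⟩ :=
    AlgSpLib.exists_affine_chart (hqc (IsAlgSpace.yon_obj V) (AlgSpLib.isQuasiCompactSp_yon V) v _ _ sqP)
  haveI := hE
  obtain ⟨h, hh⟩ := (yon S).map_surjective (p ≫ pullback.snd f v)
  let a := p ≫ pullback.fst f v
  have ha : RepWith @Etale a := AlgSpLib.repWith_comp hp (AlgSpLib.repWith_of_isPullback sqP.flip hv)
  have haf : a ≫ f = (yon S).map h ≫ v := by
    rw [hh, Category.assoc, Category.assoc, pullback.condition]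
  have hrange : ∀ y : E.left, h.left y ∈ Set.range zi.left →
      Points.ofPt a y ∈ Set.range (Points.map iY) := by
    rintro y ⟨w, hw⟩
    rw [AlgSpLib.range_map_of_isPullback hFZ.flip]
    refine ⟨Points.ofPt z w, ?_⟩
    rw [ofPt_map_map, ofPt_map_map, haf, sqZ.w, AlgSpLib.ofPt_yon_comp, AlgSpLib.ofPt_yon_comp, hw]
  obtain ⟨R₀, r₀, hR₀, hr₀, hr₀h, hr₀Z⟩ := exists_localization_flat h.left zi.left fun y hy =>
    hflat _ (hrange y hy) a v h y ha hv haf rfl
  let R : Over S := Over.mk (r₀ ≫ E.hom)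
  let ρ : R ⟶ E := Over.homMk r₀ rfl
  let r := ρ ≫ h
  haveI : IsAffine R.left := hR₀
  haveI : Flat ρ.left := hr₀
  have hrflat : Flat r.left := hr₀h
  -- the relation of the chart
  obtain ⟨W, q₁, q₂, sqW⟩ := AlgSpLib.exists_isPullback_yon p p hp.rep
  have hq₁ : Etale q₁.left := AlgSpLib.etale_left (AlgSpLib.repWith_of_isPullback sqW.flip hp)
  have hqP : RepWith @QuasiCompact (pullback.diagonal (pullback.snd f v)) :=
    AlgSpLib.repWith_diagonal_of_isPullback sqP hqs
  have sqT := (IsPullback.of_hasPullback h h).map (yon S)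
  rw [hh] at sqT
  obtain ⟨ψ, hψ⟩ := (yon S).map_surjective
    (sqW.isoPullback.hom ≫ pullback.mapDesc p p (pullback.snd f v) ≫ sqT.isoPullback.inv)
  have hψ₁ : ψ ≫ pullback.fst h h = q₁ := (yon S).map_injective (by
    rw [Functor.map_comp, hψ, Category.assoc, Category.assoc, IsPullback.isoPullback_inv_fst]
    simp [pullback.mapDesc])
  have hψ₂ : ψ ≫ pullback.snd h h = q₂ := (yon S).map_injective (by
    rw [Functor.map_comp, hψ, Category.assoc, Category.assoc, IsPullback.isoPullback_inv_snd]
    simp [pullback.mapDesc])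
  haveI : QuasiCompact ψ.left := by
    refine (repWith_yon_map_iff (P := (@QuasiCompact : MorphismProperty Scheme.{u})) ψ).1 ?_
    rw [hψ]
    exact MorphismProperty.RespectsIso.precomp _ _ _ (MorphismProperty.RespectsIso.postcomp _ _ _
      (AlgSpLib.repWith_mapDesc p p (pullback.snd f v) hqP))
  haveI : IsAffine (pullback h h).left := IsAffine.of_isIso (AlgSpLib.left_isPullback h h).isoPullback.hom
  haveI : CompactSpace W.left := QuasiCompact.compactSpace_of_compactSpace ψ.left
  let 𝒰 := W.left.affineCover.finiteSubcover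
  let k₀ : ∐ 𝒰.X ⟶ W.left := Sigma.desc 𝒰.f
  haveI : Etale k₀ := IsZariskiLocalAtSource.sigmaDesc (P := @Etale) fun _ => inferInstance
  haveI : Surjective k₀ := ⟨fun x => ⟨Sigma.ι 𝒰.X (𝒰.idx x) (𝒰.covers x).choose, by
    rw [← Scheme.Hom.comp_apply, Sigma.ι_desc]; exact (𝒰.covers x).choose_spec⟩⟩
  let E₂ : Over S := Over.mk (k₀ ≫ W.hom)
  let k : E₂ ⟶ W := Over.homMk k₀ rfl
  let c₀ : E₂ ⟶ pullback h h := k ≫ ψ
  haveI : IsAffine E₂.left := inferInstanceAs (IsAffine (∐ 𝒰.X))
  let m : pullback r r ⟶ pullback h h := pullback.lift (pullback.fst r r ≫ ρ) (pullback.snd r r ≫ ρ) (by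
    simpa [r] using pullback.condition (f := r) (g := r))
  haveI : IsAffine (pullback r r).left := IsAffine.of_isIso (AlgSpLib.left_isPullback r r).isoPullback.hom
  -- the first projection of the chart of the relation, over `R`
  have hflatC : Flat ((pullback.snd c₀ m).left ≫ (pullback.fst r r).left) := by
    let B := pullback (c₀ ≫ pullback.fst h h) ρ
    have hfstflat : Flat (c₀ ≫ pullback.fst h h).left := by
      rw [Category.assoc, hψ₁]; haveI := hq₁
      exact inferInstanceAs (Flat (k₀ ≫ q₁.left))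
    let τ : pullback c₀ m ⟶ B := pullback.lift (pullback.fst c₀ m) (pullback.snd c₀ m ≫ pullback.fst r r) (by
      rw [pullback.condition_assoc, pullback.lift_fst, Category.assoc])
    let β : B ⟶ E := pullback.fst (c₀ ≫ pullback.fst h h) ρ ≫ c₀ ≫ pullback.snd h h
    have hτ : IsPullback (pullback.snd c₀ m ≫ pullback.snd r r) τ ρ β := by
      refine ⟨⟨?_⟩, ⟨PullbackCone.IsLimit.mk _ (fun s => pullback.lift (s.snd ≫ pullback.fst _ _)
        (pullback.lift (s.snd ≫ pullback.snd _ _) s.fst ?_) ?_) ?_ ?_ ?_⟩⟩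
      · rw [Category.assoc, pullback.lift_fst_assoc, pullback.condition_assoc, pullback.lift_snd]
      · have hc := s.condition
        change s.fst ≫ ρ = s.snd ≫ β at hc
        rw [Category.assoc]
        change _ ≫ _ ≫ ρ ≫ h = s.fst ≫ ρ ≫ h
        rw [reassoc_of% hc, ← pullback.condition_assoc]
        simp only [Category.assoc]
        rw [pullback.condition]
        simp only [β, Category.assoc]
      · apply pullback.hom_ext
        · simp [m, pullback.condition]
        · have hc := s.condition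
          change s.fst ≫ ρ = s.snd ≫ β at hc
          simp [m, β, hc]
      · intro s
        rw [pullback.lift_snd_assoc, pullback.lift_snd]
      · intro s
        apply pullback.hom_ext
        · simp [τ]
        · simp [τ]
      · intro s n h₁ h₂
        apply pullback.hom_ext
        · rw [pullback.lift_fst, ← h₂]; simp [τ]
        · rw [pullback.lift_snd]
          apply pullback.hom_ext
          · rw [pullback.lift_fst, ← h₂]; simp [τ]
          · rw [pullback.lift_snd, ← h₁]; simp
    haveI : Flat τ.left := MorphismProperty.of_isPullback (P := @Flat) (hτ.map (Over.forget S)) ‹Flat ρ.left›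
    haveI : Flat (pullback.snd (c₀ ≫ pullback.fst h h) ρ).left :=
      MorphismProperty.of_isPullback (P := @Flat) (AlgSpLib.left_isPullback _ ρ) hfstflat
    have e : τ ≫ pullback.snd (c₀ ≫ pullback.fst h h) ρ = pullback.snd c₀ m ≫ pullback.fst r r :=
      pullback.lift_snd _ _ _
    rw [← Over.comp_left, ← e, Over.comp_left]
    infer_instance
  refine ⟨{
    ZV := ZV
    zi := zi
    z := z
    sqZ := sqZ
    closed := hclosed
    lfp := hlfp
    R := R
    affR := inferInstance
    r := r
    flat := hrflat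
    l := (yon S).map ρ ≫ a
    hl := by rw [Category.assoc, haf, ← Functor.map_comp_assoc]
    surjZ := ?_
    C := pullback c₀ m
    affC := IsAffine.of_isIso (AlgSpLib.left_isPullback c₀ m).isoPullback.hom
    c := pullback.snd c₀ m
    flatC := by
      haveI := hflatC; haveI := hrflat
      rw [← Category.assoc, Over.comp_left, Over.comp_left]
      infer_instance
    eqC := ?_
    ff := ?_ }, E, h, a, p, ρ, hE, hp, hps, hh.symm, rfl, rfl, rfl, hr₀, fun y hy => hr₀Z y hy⟩
  · -- every point over `Z` lifts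
    rintro x ⟨w, rfl⟩
    let g₀ : (yon S).obj ZV ⟶ pullback f v := pullback.lift (z ≫ inv fZ ≫ iY) ((yon S).map zi) (by
      rw [Category.assoc, Category.assoc, hFZ.w, IsIso.inv_hom_id_assoc, sqZ.w])
    obtain ⟨y', hy'⟩ := AlgSpLib.map_surjective_of_repWith hps (Points.map g₀ (Points.schemeHomeo ZV w))
    obtain ⟨y, rfl⟩ := (Points.schemeHomeo E).surjective y'
    have e₁ : ∀ {A B : Over S} (g : A ⟶ B) (t : A.left),
        Points.map ((yon S).map g) (Points.schemeHomeo A t) = Points.schemeHomeo B (g.left t) := fun {A B} g t => by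
      change Points.map ((yon S).map g) (Points.ofPt (𝟙 _) t) = Points.ofPt (𝟙 _) (g.left t)
      rw [Points.map_ofPt, Category.id_comp, ← Category.comp_id ((yon S).map g), AlgSpLib.ofPt_yon_comp]
    have e₂ : h.left y = zi.left w := by
      refine (Points.schemeHomeo V).injective ?_
      rw [← e₁, ← e₁, hh, Points.map_comp, hy', ← Points.map_comp, pullback.lift_snd]
    obtain ⟨y₀, hy₀⟩ := hr₀Z y ⟨w, e₂.symm⟩
    exact ⟨y₀, (congrArg h.left hy₀).trans e₂⟩
  · have e1 : (pullback.snd c₀ m ≫ pullback.fst r r) ≫ ρ = (pullback.fst c₀ m ≫ k) ≫ q₁ := by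
      rw [← hψ₁, Category.assoc (pullback.fst c₀ m) k, ← Category.assoc k, pullback.condition_assoc,
        pullback.lift_fst, Category.assoc]
    have e2 : (pullback.snd c₀ m ≫ pullback.snd r r) ≫ ρ = (pullback.fst c₀ m ≫ k) ≫ q₂ := by
      rw [← hψ₂, Category.assoc (pullback.fst c₀ m) k, ← Category.assoc k, pullback.condition_assoc,
        pullback.lift_snd, Category.assoc]
    rw [← Functor.map_comp_assoc, ← Functor.map_comp_assoc, e1, e2]
    simp only [Functor.map_comp, Category.assoc, a]
    rw [reassoc_of% sqW.w]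
  · intro T t ⟨b, hb⟩
    -- pairs over `Z` lift uniquely to the relation
    let t' := t ≫ m.left
    let To : Over S := Over.mk (t' ≫ (pullback h h).hom)
    let to' : To ⟶ pullback h h := Over.homMk t' rfl
    let bo : To ⟶ ZV := Over.homMk b (by
      change b ≫ ZV.hom = t' ≫ (pullback h h).hom
      rw [← Over.w zi, reassoc_of% hb, Over.w (pullback.fst r r ≫ r), ← Over.w m, Category.assoc])
    have hbo : bo ≫ zi = to' ≫ pullback.fst h h ≫ h := by
      refine Over.OverMorphism.ext ?_
      change b ≫ zi.left = (t ≫ m.left) ≫ (pullback.fst h h ≫ h).left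
      have hm : m ≫ pullback.fst h h ≫ h = pullback.fst r r ≫ r := by
        rw [pullback.lift_fst_assoc, Category.assoc]
      have hm' := congrArg Over.Hom.left hm
      simp only [Over.comp_left, Category.assoc] at hm' hb ⊢
      rw [hb, hm']
    have hP : (yon S).map (to' ≫ pullback.fst h h) ≫ p = (yon S).map (to' ≫ pullback.snd h h) ≫ p := by
      have key : ∀ (d : To ⟶ E), d ≫ h = bo ≫ zi →
          (yon S).map d ≫ a = (yon S).map bo ≫ z ≫ inv fZ ≫ iY := by
        intro d hd
        have e : ((yon S).map d ≫ a) ≫ f = ((yon S).map bo ≫ z) ≫ i := by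
          rw [Category.assoc, haf, Category.assoc, sqZ.w, ← Functor.map_comp_assoc, hd, Functor.map_comp_assoc]
        have hL : hFZ.lift _ _ e = ((yon S).map bo ≫ z) ≫ inv fZ :=
          (IsIso.eq_comp_inv fZ).2 (hFZ.lift_snd _ _ e)
        rw [← hFZ.lift_fst _ _ e, hL]
        simp only [Category.assoc]
      apply pullback.hom_ext
      · rw [Category.assoc, Category.assoc]
        exact (key _ (by rw [Category.assoc, hbo])).trans
          (key _ (by rw [Category.assoc, hbo, pullback.condition])).symm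
      · rw [Category.assoc, Category.assoc, ← hh, ← Functor.map_comp, ← Functor.map_comp, Category.assoc,
          Category.assoc, pullback.condition]
    obtain ⟨u, hu⟩ := (yon S).map_surjective (sqW.lift _ _ hP)
    have hu₁ : u ≫ q₁ = to' ≫ pullback.fst h h := (yon S).map_injective (by rw [Functor.map_comp, hu, sqW.lift_fst])
    have hu₂ : u ≫ q₂ = to' ≫ pullback.snd h h := (yon S).map_injective (by rw [Functor.map_comp, hu, sqW.lift_snd])
    have huψ : u ≫ ψ = to' := pullback.hom_ext (by rw [Category.assoc, hψ₁, hu₁]) (by rw [Category.assoc, hψ₂, hu₂])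
    haveI : Mono ψ := ⟨fun x y e => (yon S).map_injective (sqW.hom_ext
      (by rw [← Functor.map_comp, ← Functor.map_comp, ← hψ₁, reassoc_of% e])
      (by rw [← Functor.map_comp, ← Functor.map_comp, ← hψ₂, reassoc_of% e]))⟩
    haveI : Mono ψ.left := inferInstanceAs (Mono ((Over.forget S).map ψ))
    -- the base change of the chart of the relation to `T`
    have sq1 := ((IsPullback.of_hasPullback (pullback.snd c₀ m).left t).flip.paste_vert
      (AlgSpLib.left_isPullback c₀ m).flip).flip
    have e3 : t ≫ m.left = u.left ≫ ψ.left := (congrArg Over.Hom.left huψ).symm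
    have e4 : c₀.left = k.left ≫ ψ.left := rfl
    rw [e3, e4] at sq1
    have hw := sq1.w
    rw [← Category.assoc, ← Category.assoc, cancel_mono] at hw
    have sq2 := IsPullback.of_isLimit' ⟨hw⟩ (PullbackCone.IsLimit.mk _
      (fun s => sq1.lift s.fst s.snd (by rw [reassoc_of% s.condition]))
      (fun s => sq1.lift_fst _ _ _) (fun s => sq1.lift_snd _ _ _)
      (fun s n h₁ h₂ => sq1.hom_ext (by rw [sq1.lift_fst]; exact h₁) (by rw [sq1.lift_snd]; exact h₂)))
    haveI : Flat k.left := inferInstanceAs (Flat k₀)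
    haveI : Surjective k.left := inferInstanceAs (Surjective k₀)
    rw [← sq2.isoPullback_hom_snd]
    exact ⟨inferInstance, inferInstance⟩

end GlueSepLib
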