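import Groth.Agent.GlueSepLib.Sch
import Groth.Agent.AlgSpLib.FpqcSep
import Groth.Agent.AlgSpLib.Coprod
import Groth.Agent.AlgSpLib.DecentTop
import Groth.Agent.AlgSpLib.Qc
import Groth.Agent.SpPushLib.Rel

/-!
# Flat covers adapted to a closed subspace, and glueing of sections of separated spaces along them
-/

set_option autoImplicit false
set_option backward.isDefEq.respectTransparency false
set_option backward.isDefEq.respectTransparency.types false

universe u

open CategoryTheory CategoryTheory.Limits AlgebraicGeometry Opposite AlgSp Topology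

namespace GlueSepLib

variable {S : Scheme.{u}}

/-- Morphisms out of a scheme agree if they agree on an open cover. -/
theorem hom_ext_cover {G : Sp S} {V : Over S} {κ : Type u} {W : κ → Over S} (s : ∀ k, W k ⟶ V)
    (hs : ∀ k, IsOpenImmersion (s k).left) (hcov : ∀ v : V.left, ∃ k, v ∈ Set.range (s k).left)
    {b b' : (yon S).obj V ⟶ G} (h : ∀ k, (yon S).map (s k) ≫ b = (yon S).map (s k) ≫ b') : b = b' := by
  have hsf := (isSheaf_iff_isSheaf_of_type _ _).1 G.property _
    (AlgSpLib.ofArrows_mem_J s (fun k => inferInstance) (fun k => inferInstance) hcov)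
  refine (GrothendieckTopology.uliftYonedaEquiv.{u + 1} (J := AlgSp.J S)).injective (hsf.isSeparatedFor.ext ?_)
  rintro T g ⟨_, l, _, ⟨k⟩, rfl⟩
  rw [op_comp, Functor.map_comp]
  have e := congrArg (GrothendieckTopology.uliftYonedaEquiv.{u + 1} (J := AlgSp.J S)) (h k)
  rw [← GrothendieckTopology.uliftYonedaEquiv_naturality.{u + 1} (J := AlgSp.J S) b (s k),
    ← GrothendieckTopology.uliftYonedaEquiv_naturality.{u + 1} (J := AlgSp.J S) b' (s k)] at e
  change (G.obj.map l.op) ((G.obj.map (s k).op) _) = (G.obj.map l.op) ((G.obj.map (s k).op) _)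
  exact congrArg (G.obj.map l.op) e

variable {X Y Z : Sp S} (f : Y ⟶ X) (i : Z ⟶ X)

/-- The data of a flat cover of an affine scheme over `X` adapted to `Z`. -/
structure Cover {V : Over S} (v : (yon S).obj V ⟶ X) where
  ZV : Over S
  zi : ZV ⟶ V
  z : (yon S).obj ZV ⟶ Z
  sqZ : IsPullback z ((yon S).map zi) i v
  closed : IsClosedImmersion zi.left
  lfp : LocallyOfFinitePresentation zi.left
  R : Over S
  affR : IsAffine R.left
  r : R ⟶ V
  flat : Flat r.left
  l : (yon S).obj R ⟶ Y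
  hl : l ≫ f = (yon S).map r ≫ v
  surjZ : Set.range zi.left ⊆ Set.range r.left
  C : Over S
  affC : IsAffine C.left
  c : C ⟶ pullback r r
  flatC : Flat (c ≫ pullback.fst r r ≫ r).left
  eqC : (yon S).map (c ≫ pullback.fst r r) ≫ l = (yon S).map (c ≫ pullback.snd r r) ≫ l
  ff : ∀ (T : Scheme.{u}) (t : T ⟶ (pullback r r).left),
    (∃ a, a ≫ zi.left = t ≫ (pullback.fst r r ≫ r).left) →
      Flat (pullback.snd c.left t) ∧ Surjective (pullback.snd c.left t)

variable {f i} {V : Over S} {v : (yon S).obj V ⟶ X}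

/-- A morphism avoiding the closed subscheme. -/
def Cover.Avoids (K : Cover f i v) {T : Over S} (t : T ⟶ V) : Prop := ∀ x, t.left x ∉ Set.range K.zi.left

theorem Cover.Avoids.comp {K : Cover f i v} {T T' : Over S} {t : T ⟶ V} (h : K.Avoids t) (e : T' ⟶ T) :
    K.Avoids (e ≫ t) := fun x hx => h (e.left x) hx

/-- A morphism avoiding the closed subscheme factors through the complementary open subspace. -/
theorem Cover.Avoids.exists_lift {K : Cover f i v} {T : Over S} {t : T ⟶ V} (h : K.Avoids t) {U : Sp S}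
    {j : U ⟶ X} (hj : RepWith @IsOpenImmersion j) (hU : Set.range (Points.map j) = (Set.range (Points.map i))ᶜ) :
    ∃ a : (yon S).obj T ⟶ U, a ≫ j = (yon S).map t ≫ v := by
  refine (AlgSpLib.exists_factor_iff hj _).2 ?_
  rw [hU]
  rintro _ ⟨x, rfl⟩ hx
  rw [Points.map_comp] at hx
  have : Points.map ((yon S).map t) x ∈ Set.range (Points.map ((yon S).map K.zi)) := by
    rw [AlgSpLib.range_map_of_isPullback K.sqZ]; exact hx
  obtain ⟨w, hw⟩ := this
  obtain ⟨x', rfl⟩ := (Points.schemeHomeo T).surjective x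
  obtain ⟨w', rfl⟩ := (Points.schemeHomeo K.ZV).surjective w
  refine h x' ⟨w', (Points.schemeHomeo V).injective ?_⟩
  have e₁ : ∀ {A B : Over S} (g : A ⟶ B) (a : A.left),
      Points.map ((yon S).map g) (Points.schemeHomeo A a) = Points.schemeHomeo B (g.left a) := fun {A B} g a => by
    change Points.map ((yon S).map g) (Points.ofPt (𝟙 _) a) = Points.ofPt (𝟙 _) (g.left a)
    rw [Points.map_ofPt, Category.id_comp, ← Category.comp_id ((yon S).map g), AlgSpLib.ofPt_yon_comp]
  rw [← e₁, ← e₁]; exact hw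

/-- A single affine flat cover containing `R` and an affine cover of the open part. -/
theorem exists_flat_cover' [IsAffine V.left] {ZV R : Over S} (zi : ZV ⟶ V) [IsClosedImmersion zi.left]
    [LocallyOfFinitePresentation zi.left] [IsAffine R.left] (r : R ⟶ V) [Flat r.left]
    (surjZ : Set.range zi.left ⊆ Set.range r.left) :
    ∃ (W T' : Over S) (k : W ⟶ V) (sR : R ⟶ T') (sW : W ⟶ T') (q : T' ⟶ V),
      IsAffine T'.left ∧ Flat q.left ∧ Surjective q.left ∧ (∀ x, k.left x ∉ Set.range zi.left) ∧ sR ≫ q = r ∧ sW ≫ q = k ∧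
      IsOpenImmersion sR.left ∧ IsOpenImmersion sW.left ∧
      (∀ x : T'.left, x ∈ Set.range sR.left ∨ x ∈ Set.range sW.left) ∧
      Disjoint (Set.range sR.left) (Set.range sW.left) := by
  let O : V.left.Opens := ⟨(Set.range zi.left)ᶜ, zi.left.isClosedEmbedding.isClosed_range.isOpen_compl⟩
  haveI : CompactSpace ↥(O : Scheme.{u}) := isCompact_iff_compactSpace.1 (isCompact_compl_range zi.left)
  let 𝒰 := (O : Scheme.{u}).affineCover.finiteSubcover
  let k₀ : ∐ 𝒰.X ⟶ V.left := Sigma.desc 𝒰.f ≫ O.ι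
  haveI : IsAffine (∐ 𝒰.X) := inferInstance
  haveI : Flat k₀ := by
    haveI : Flat (Sigma.desc 𝒰.f) := IsZariskiLocalAtSource.sigmaDesc (P := @Flat) fun _ => inferInstance
    infer_instance
  let W : Over S := Over.mk (k₀ ≫ V.hom)
  let k : W ⟶ V := Over.homMk k₀ rfl
  let q₀ : R.left ⨿ ∐ 𝒰.X ⟶ V.left := coprod.desc r.left k₀
  let T' : Over S := Over.mk (q₀ ≫ V.hom)
  let sR : R ⟶ T' := Over.homMk coprod.inl (by
    change coprod.inl ≫ coprod.desc r.left k₀ ≫ V.hom = R.hom
    rw [coprod.inl_desc_assoc, Over.w r])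
  let sW : W ⟶ T' := Over.homMk coprod.inr (by
    change coprod.inr ≫ coprod.desc r.left k₀ ≫ V.hom = k₀ ≫ V.hom
    rw [coprod.inr_desc_assoc])
  let q : T' ⟶ V := Over.homMk q₀ rfl
  have hk : ∀ x, k.left x ∉ Set.range zi.left := fun x hx => by
    have hmem : O.ι (Sigma.desc 𝒰.f x) ∈ O := (Scheme.Opens.range_ι O).le ⟨_, rfl⟩
    exact hmem hx
  have hcompl : IsCompl (Set.range (coprod.inl : R.left ⟶ R.left ⨿ ∐ 𝒰.X))
      (Set.range (coprod.inr : ∐ 𝒰.X ⟶ R.left ⨿ ∐ 𝒰.X)) := isCompl_range_inl_inr R.left (∐ 𝒰.X)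
  have hf : Flat q₀ := by
    refine IsZariskiLocalAtSource.of_openCover (P := @Flat) (coprodOpenCover.{u, u} R.left (∐ 𝒰.X)) ?_
    rintro (_ | _)
    · change Flat (coprod.inl ≫ q₀); rw [coprod.inl_desc]; infer_instance
    · change Flat (coprod.inr ≫ q₀); rw [coprod.inr_desc]; infer_instance
  have hs : Surjective q₀ := ⟨fun x => by
    by_cases hx : x ∈ Set.range zi.left
    · obtain ⟨y, hy⟩ := surjZ hx
      exact ⟨(coprod.inl : R.left ⟶ _) y, by rw [← Scheme.Hom.comp_apply, coprod.inl_desc]; exact hy⟩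
    · let x' : ↥(O : Scheme.{u}) := ⟨x, hx⟩
      refine ⟨(coprod.inr : ∐ 𝒰.X ⟶ R.left ⨿ _) (Sigma.ι 𝒰.X (𝒰.idx x') (𝒰.covers x').choose), ?_⟩
      rw [← Scheme.Hom.comp_apply, ← Scheme.Hom.comp_apply, coprod.inr_desc, Sigma.ι_desc_assoc,
        Scheme.Hom.comp_apply, (𝒰.covers x').choose_spec]
      rfl⟩
  exact ⟨W, T', k, sR, sW, q, inferInstanceAs (IsAffine (R.left ⨿ ∐ 𝒰.X)), hf, hs, hk,
    Over.OverMorphism.ext (coprod.inl_desc _ _), Over.OverMorphism.ext (coprod.inr_desc _ _),
    inferInstanceAs (IsOpenImmersion coprod.inl), inferInstanceAs (IsOpenImmersion coprod.inr),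
    fun x => (Set.eq_univ_iff_forall.1 hcompl.sup_eq_top x), hcompl.disjoint⟩

/-- A single affine flat cover for an adapted cover. -/
theorem Cover.exists_flat_cover (K : Cover f i v) [IsAffine V.left] :
    ∃ (W T' : Over S) (k : W ⟶ V) (sR : K.R ⟶ T') (sW : W ⟶ T') (q : T' ⟶ V),
      IsAffine T'.left ∧ Flat q.left ∧ Surjective q.left ∧ K.Avoids k ∧ sR ≫ q = K.r ∧ sW ≫ q = k ∧
      IsOpenImmersion sR.left ∧ IsOpenImmersion sW.left ∧
      (∀ x : T'.left, x ∈ Set.range sR.left ∨ x ∈ Set.range sW.left) ∧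
      Disjoint (Set.range sR.left) (Set.range sW.left) := by
  haveI := K.closed; haveI := K.lfp; haveI := K.flat; haveI := K.affR
  exact exists_flat_cover' K.zi K.r K.surjZ

/-- Sections of a separated space are determined on a flat piece covering the closed part and on the open part. -/
theorem hom_ext_of_flat [IsAffine V.left] {ZV R : Over S} (zi : ZV ⟶ V) [IsClosedImmersion zi.left]
    [LocallyOfFinitePresentation zi.left] [IsAffine R.left] (r : R ⟶ V) [Flat r.left]
    (surjZ : Set.range zi.left ⊆ Set.range r.left) {G : Sp S} {π : G ⟶ (yon S).obj V}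
    (hsep : IsSeparatedMor π) {w₁ w₂ : (yon S).obj V ⟶ G} (hw : w₁ ≫ π = w₂ ≫ π)
    (hR : (yon S).map r ≫ w₁ = (yon S).map r ≫ w₂)
    (hO : ∀ (T : Over S) (t : T ⟶ V), (∀ x, t.left x ∉ Set.range zi.left) →
      (yon S).map t ≫ w₁ = (yon S).map t ≫ w₂) : w₁ = w₂ := by
  obtain ⟨W, T', k, sR, sW, q, hA, hfl, hsu, hk, hqR, hqW, hoR, hoW, hcov, -⟩ := exists_flat_cover' zi r surjZ
  haveI := hA; haveI := hfl; haveI := hsu
  refine AlgSpLib.hom_eq_of_fpqc hsep q w₁ w₂ hw ?_
  refine hom_ext_cover (κ := ULift.{u} Bool) (W := fun b => cond b.down R W)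
    (fun b => match b with | ⟨true⟩ => sR | ⟨false⟩ => sW) ?_ ?_ ?_
  · rintro (_ | _) <;> assumption
  · intro x
    rcases hcov x with h | h
    · exact ⟨⟨true⟩, h⟩
    · exact ⟨⟨false⟩, h⟩
  · rintro (_ | _)
    · change (yon S).map sW ≫ _ = (yon S).map sW ≫ _
      rw [← Functor.map_comp_assoc, ← Functor.map_comp_assoc, hqW]; exact hO _ k hk
    · change (yon S).map sR ≫ _ = (yon S).map sR ≫ _
      rw [← Functor.map_comp_assoc, ← Functor.map_comp_assoc, hqR]; exact hR

/-- Sections of a separated space are determined on `R` and on the open part. -/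
theorem Cover.hom_ext (K : Cover f i v) [IsAffine V.left] {G : Sp S} {π : G ⟶ (yon S).obj V}
    (hsep : IsSeparatedMor π) {w₁ w₂ : (yon S).obj V ⟶ G} (hw : w₁ ≫ π = w₂ ≫ π)
    (hR : (yon S).map K.r ≫ w₁ = (yon S).map K.r ≫ w₂)
    (hO : ∀ (T : Over S) (t : T ⟶ V), K.Avoids t → (yon S).map t ≫ w₁ = (yon S).map t ≫ w₂) : w₁ = w₂ := by
  haveI := K.closed; haveI := K.lfp; haveI := K.flat; haveI := K.affR
  exact hom_ext_of_flat K.zi K.r K.surjZ hsep hw hR hO

/-- A quasi-compact open subspace through which a morphism from an affine scheme factors. -/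
theorem exists_qc_open {G : Sp S} (hG : IsAlgSpace G) {T : Over S} [IsAffine T.left]
    (b : (yon S).obj T ⟶ G) :
    ∃ (G' : Sp S) (ι : G' ⟶ G) (b' : (yon S).obj T ⟶ G') (E : Over S) (p : (yon S).obj E ⟶ G'),
      IsAlgSpace G' ∧ RepWith @IsOpenImmersion ι ∧ b' ≫ ι = b ∧ IsAffine E.left ∧ RepWith @Etale p ∧
        RepWith @Surjective p := by
  obtain ⟨κ, U, a, hU, ha, hao, has⟩ := AlgSpLib.exists_affine_charts hG
  haveI : CompactSpace (Points ((yon S).obj T)) := (Points.schemeHomeo T).compactSpace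
  obtain ⟨s, hs⟩ := (isCompact_range (Points.continuous_map b)).elim_finite_subcover
    (fun k => Set.range (Points.map (a k))) (fun k => (hao k).isOpen_range)
    (fun x _ => Set.mem_iUnion.2 (has x))
  let O : Set (Points G) := ⋃ k ∈ s, Set.range (Points.map (a k))
  have hO : IsOpen O := isOpen_biUnion fun k _ => (hao k).isOpen_range
  have hι := AlgSpLib.repWith_openSubι G hO
  have hG' := AlgSpLib.isAlgSpace_openSub hG hO
  obtain ⟨b', hb'⟩ := (AlgSpLib.exists_factor_iff hι b).2 (by rw [AlgSpLib.range_openSubι G]; exact hs)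
  have hlift : ∀ k : s, ∃ g : (yon S).obj (U k) ⟶ AlgSpLib.openSub G O, g ≫ AlgSpLib.openSubι G O = a k :=
    fun k => (AlgSpLib.exists_factor_iff hι (a k)).2 (by
      rw [AlgSpLib.range_openSubι G]; exact Set.subset_biUnion_of_mem (u := fun k => Set.range (Points.map (a k))) k.2)
  choose g hg using hlift
  haveI := AlgSpLib.mono_of_openImmersion hι
  have hinj : Function.Injective (Points.map (AlgSpLib.openSubι G O)) := fun y y' e => by
    obtain ⟨w, h₁, h₂⟩ := AlgSpLib.exists_point_isPullback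
      (IsKernelPair.id_of_mono (AlgSpLib.openSubι G O)) y y' e
    rw [← h₁, ← h₂]
  haveI : CompactSpace (Points (AlgSpLib.openSub G O)) := ⟨by
    have : (Set.univ : Set (Points (AlgSpLib.openSub G O))) = ⋃ k : s, Set.range (Points.map (g k)) := by
      refine (Set.eq_univ_of_forall fun y => ?_).symm
      have hy : Points.map (AlgSpLib.openSubι G O) y ∈ O := (AlgSpLib.range_openSubι G).le ⟨y, rfl⟩
      obtain ⟨k, hk, x, hx⟩ := Set.mem_iUnion₂.1 hy
      exact Set.mem_iUnion.2 ⟨⟨k, hk⟩, x, hinj (by rw [← Points.map_comp, hg ⟨k, hk⟩, hx])⟩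
    rw [this]
    refine isCompact_iUnion fun k => ?_
    haveI : IsAffine (U k).left := hU _
    haveI : CompactSpace (Points ((yon S).obj (U k))) := (Points.schemeHomeo _).compactSpace
    exact isCompact_range (Points.continuous_map _)⟩
  obtain ⟨E, p, hE, hp, hps⟩ :=
    AlgSpLib.exists_affine_chart (AlgSpLib.isQuasiCompactSp_of_compactSpace hG' inferInstance)
  exact ⟨_, _, b', E, p, hG', hι, hb', hE, hp, hps⟩

end GlueSepLib
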