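import Groth.Agent.GlueSepLib.Cover

/-!
# Glueing a section of a separated space from `R` and the open part
-/

set_option autoImplicit false
set_option backward.isDefEq.respectTransparency false
set_option backward.isDefEq.respectTransparency.types false

universe u

open CategoryTheory CategoryTheory.Limits AlgebraicGeometry Opposite AlgSp Topology

namespace GlueSepLib

variable {S : Scheme.{u}} {X Y Z : Sp S} {f : Y ⟶ X} {i : Z ⟶ X} {V : Over S} {v : (yon S).obj V ⟶ X}

/-- A morphism given on `R` and on the open part, symmetric on `C`, is symmetric on `R ×_V R`. -/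
theorem Cover.fst_eq_snd (K : Cover f i v) [IsAffine V.left] {G : Sp S} {π : G ⟶ (yon S).obj V}
    (hsep : IsSeparatedMor π) (b : (yon S).obj K.R ⟶ G) (hb : b ≫ π = (yon S).map K.r)
    (hbU : ∀ (T : Over S) (e e' : T ⟶ K.R), e ≫ K.r = e' ≫ K.r → K.Avoids (e ≫ K.r) →
      (yon S).map e ≫ b = (yon S).map e' ≫ b)
    (hbC : (yon S).map (K.c ≫ pullback.fst K.r K.r) ≫ b = (yon S).map (K.c ≫ pullback.snd K.r K.r) ≫ b) :
    (yon S).map (pullback.fst K.r K.r) ≫ b = (yon S).map (pullback.snd K.r K.r) ≫ b := by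
  haveI := K.closed; haveI := K.lfp; haveI := K.affR; haveI := K.affC; haveI := K.flat
  have h : ((yon S).map (pullback.fst K.r K.r) ≫ b) ≫ π = ((yon S).map (pullback.snd K.r K.r) ≫ b) ≫ π := by
    rw [Category.assoc, Category.assoc, hb, ← Functor.map_comp, ← Functor.map_comp, pullback.condition]
  obtain ⟨E, ι, hι, hιw, huniv⟩ := AlgSpLib.exists_closed_equalizer hsep _ _ h
  haveI := hι
  haveI : IsAffine (pullback K.r K.r).left :=
    IsAffine.of_isIso (AlgSpLib.left_isPullback K.r K.r).isoPullback.hom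
  haveI : Flat (pullback.fst K.r K.r).left :=
    MorphismProperty.of_isPullback (P := @Flat) (AlgSpLib.left_isPullback K.r K.r).flip K.flat
  haveI : Flat ((pullback.fst K.r K.r).left ≫ K.r.left) := inferInstance
  haveI : Flat (K.c.left ≫ (pullback.fst K.r K.r).left ≫ K.r.left) := K.flatC
  haveI : IsIso ι.left := by
    refine isIso_of_cover K.zi.left ((pullback.fst K.r K.r).left ≫ K.r.left) K.c.left K.ff ι.left ?_ ?_
    · obtain ⟨l, hl⟩ := huniv K.C K.c (by simpa using hbC)
      exact ⟨l.left, congrArg Over.Hom.left hl⟩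
    · intro T t ht
      let To : Over S := Over.mk (t ≫ (pullback K.r K.r).hom)
      let to' : To ⟶ pullback K.r K.r := Over.homMk t rfl
      obtain ⟨l, hl⟩ := huniv To to' (by
        rw [← Category.assoc, ← Category.assoc, ← Functor.map_comp, ← Functor.map_comp]
        refine hbU To _ _ (by simp [pullback.condition]) fun x hx => ?_
        exact ht x hx)
      exact ⟨l.left, congrArg Over.Hom.left hl⟩
  haveI : IsIso ((Over.forget S).map ι) := inferInstanceAs (IsIso ι.left)
  haveI : IsIso ι := isIso_of_reflects_iso _ (Over.forget S)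
  exact (cancel_epi ((yon S).map ι)).1 hιw

/-- The pieces of a cover of a scheme induced by a cover of the target. -/
theorem hom_ext_pullback_cover {G : Sp S} {T T' : Over S} {κ : Type u} {W : κ → Over S} (s : ∀ k, W k ⟶ T')
    (hs : ∀ k, IsOpenImmersion (s k).left) (hcov : ∀ v : T'.left, ∃ k, v ∈ Set.range (s k).left) (x : T ⟶ T')
    {a a' : (yon S).obj T ⟶ G}
    (h : ∀ (k : κ) (P : Over S) (e : P ⟶ T) (e' : P ⟶ W k), e' ≫ s k = e ≫ x →
      (yon S).map e ≫ a = (yon S).map e ≫ a') : a = a' := by
  refine hom_ext_cover (κ := κ) (W := fun k => pullback (s k) x) (fun k => pullback.snd (s k) x)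
    (fun k => ?_) (fun t => ?_) (fun k => h k _ _ (pullback.fst (s k) x) pullback.condition)
  · haveI := hs k
    exact MorphismProperty.of_isPullback (P := @IsOpenImmersion) (AlgSpLib.left_isPullback (s k) x) inferInstance
  · obtain ⟨k, y, hy⟩ := hcov (x.left t)
    obtain ⟨p, -, hp⟩ := Scheme.Pullback.exists_preimage_pullback (f := (s k).left) (g := x.left) y t hy
    refine ⟨k, (AlgSpLib.left_isPullback (s k) x).isoPullback.inv p, ?_⟩
    rw [← hp, ← Scheme.Hom.comp_apply, IsPullback.isoPullback_inv_snd]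

/-- A section of a separated space is glued from a symmetric morphism on `R` and compatible ones on the open
part. -/
theorem Cover.exists_section (K : Cover f i v) [IsAffine V.left] {G : Sp S} (hG : IsAlgSpace G)
    {π : G ⟶ (yon S).obj V} (hsep : IsSeparatedMor π)
    (gU : ∀ (T : Over S) (t : T ⟶ V), K.Avoids t → ((yon S).obj T ⟶ G))
    (gπ : ∀ (T : Over S) (t : T ⟶ V) (h : K.Avoids t), gU T t h ≫ π = (yon S).map t)
    (gnat : ∀ {T T' : Over S} (e : T' ⟶ T) (t : T ⟶ V) (h : K.Avoids t),
      gU T' (e ≫ t) (h.comp e) = (yon S).map e ≫ gU T t h)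
    (b : (yon S).obj K.R ⟶ G) (hb : b ≫ π = (yon S).map K.r)
    (hbU : ∀ (T : Over S) (e : T ⟶ K.R) (h : K.Avoids (e ≫ K.r)), (yon S).map e ≫ b = gU T (e ≫ K.r) h)
    (hbC : (yon S).map (K.c ≫ pullback.fst K.r K.r) ≫ b = (yon S).map (K.c ≫ pullback.snd K.r K.r) ≫ b) :
    ∃ w : (yon S).obj V ⟶ G, w ≫ π = 𝟙 _ ∧ (yon S).map K.r ≫ w = b ∧
      ∀ (T : Over S) (t : T ⟶ V) (h : K.Avoids t), (yon S).map t ≫ w = gU T t h := by
  have gU_congr : ∀ {T : Over S} {t t' : T ⟶ V} (e : t = t') (h : K.Avoids t) (h' : K.Avoids t'),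
      gU T t h = gU T t' h' := by rintro T t t' rfl h h'; rfl
  have hbL := K.fst_eq_snd hsep b hb (fun T e e' he h => by
    rw [hbU T e h, hbU T e' (he ▸ h)]; exact gU_congr he _ _) hbC
  have hRR : ∀ {T : Over S} (e e' : T ⟶ K.R), e ≫ K.r = e' ≫ K.r →
      (yon S).map e ≫ b = (yon S).map e' ≫ b := by
    intro T e e' he
    rw [← pullback.lift_fst e e' he, Functor.map_comp, Category.assoc, hbL, ← Category.assoc, ← Functor.map_comp,
      pullback.lift_snd]
  obtain ⟨W, T', k, sR, sW, q, hA, hfl, hsu, hk, hqR, hqW, hoR, hoW, hcov, hdisj⟩ := K.exists_flat_cover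
  haveI := hA; haveI := hfl; haveI := hsu
  let Wf : ULift.{u} Bool → Over S := fun c => cond c.down K.R W
  let s : ∀ c, Wf c ⟶ T' := fun c => match c with | ⟨true⟩ => sR | ⟨false⟩ => sW
  have hs : ∀ c, IsOpenImmersion (s c).left := by rintro (_ | _) <;> assumption
  have hcov' : ∀ x : T'.left, ∃ c, x ∈ Set.range (s c).left := fun x =>
    (hcov x).elim (fun h => ⟨⟨true⟩, h⟩) (fun h => ⟨⟨false⟩, h⟩)
  have hdisj' : ∀ c c', c ≠ c' → Disjoint (Set.range (s c).left) (Set.range (s c').left) := by
    rintro (_ | _) (_ | _) hne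
    · exact absurd rfl hne
    · exact hdisj.symm
    · exact hdisj
    · exact absurd rfl hne
  let bs : ∀ c, (yon S).obj (Wf c) ⟶ G := fun c => match c with | ⟨true⟩ => b | ⟨false⟩ => gU W k hk
  obtain ⟨hcol⟩ := AlgSpLib.nonempty_isColimit_yon_cofan s hs hcov' hdisj'
  let b' : (yon S).obj T' ⟶ G := hcol.desc (Cofan.mk G bs)
  have hb' : ∀ c, (yon S).map (s c) ≫ b' = bs c := fun c => hcol.fac (Cofan.mk G bs) ⟨c⟩
  have hb'R : (yon S).map sR ≫ b' = b := hb' ⟨true⟩
  have hb'W : (yon S).map sW ≫ b' = gU W k hk := hb' ⟨false⟩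
  have hb'π : b' ≫ π = (yon S).map q := by
    refine hom_ext_cover s hs hcov' ?_
    rintro (_ | _)
    · change (yon S).map sW ≫ b' ≫ π = (yon S).map sW ≫ (yon S).map q
      rw [reassoc_of% hb'W, gπ, ← Functor.map_comp, hqW]
    · change (yon S).map sR ≫ b' ≫ π = (yon S).map sR ≫ (yon S).map q
      rw [reassoc_of% hb'R, hb, ← Functor.map_comp, hqR]
  have hU' : ∀ {T : Over S} (x : T ⟶ T') (h : K.Avoids (x ≫ q)), (yon S).map x ≫ b' = gU T (x ≫ q) h := by
    intro T x h
    refine hom_ext_pullback_cover s hs hcov' x ?_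
    rintro (_ | _) P e e' he
    · change e' ≫ sW = e ≫ x at he
      rw [← Functor.map_comp_assoc, ← he, Functor.map_comp_assoc, hb'W]
      exact (gnat (T := W) e' k hk).symm.trans
        ((gU_congr (by rw [← hqW, reassoc_of% he]) _ (h.comp e)).trans (gnat e (x ≫ q) h))
    · change e' ≫ sR = e ≫ x at he
      have hav : K.Avoids (e' ≫ K.r) := by rw [← hqR, reassoc_of% he]; exact h.comp e
      rw [← Functor.map_comp_assoc, ← he, Functor.map_comp_assoc, hb'R, hbU P e' hav, ← gnat]
      exact gU_congr (by rw [← hqR, reassoc_of% he]) _ _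
  have heq : (yon S).map (pullback.fst q q) ≫ b' = (yon S).map (pullback.snd q q) ≫ b' := by
    refine hom_ext_pullback_cover s hs hcov' (pullback.fst q q) ?_
    rintro (_ | _) P e e' he
    · change e' ≫ sW = e ≫ pullback.fst q q at he
      have h1 : K.Avoids ((e ≫ pullback.fst q q) ≫ q) := by
        rw [← he, Category.assoc, hqW]; exact hk.comp e'
      have h2 : K.Avoids ((e ≫ pullback.snd q q) ≫ q) := by
        rw [Category.assoc, ← pullback.condition, ← Category.assoc]; exact h1
      rw [← Functor.map_comp_assoc, ← Functor.map_comp_assoc, hU' _ h1, hU' _ h2]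
      exact gU_congr (by rw [Category.assoc, Category.assoc, pullback.condition]) _ _
    · change e' ≫ sR = e ≫ pullback.fst q q at he
      refine hom_ext_pullback_cover s hs hcov' (e ≫ pullback.snd q q) ?_
      rintro (_ | _) Q d d' hd
      · change d' ≫ sW = d ≫ e ≫ pullback.snd q q at hd
        have h2 : K.Avoids ((d ≫ e ≫ pullback.snd q q) ≫ q) := by
          rw [← hd, Category.assoc, hqW]; exact hk.comp d'
        have h1 : K.Avoids ((d ≫ e ≫ pullback.fst q q) ≫ q) := by
          simpa only [Category.assoc, pullback.condition] using h2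
        rw [← Functor.map_comp_assoc, ← Functor.map_comp_assoc, ← Functor.map_comp_assoc, ← Functor.map_comp_assoc,
          Category.assoc, Category.assoc, hU' _ h1, hU' _ h2]
        exact gU_congr (by simp only [Category.assoc, pullback.condition]) _ _
      · change d' ≫ sR = d ≫ e ≫ pullback.snd q q at hd
        rw [← Functor.map_comp_assoc, ← Functor.map_comp_assoc, ← Functor.map_comp_assoc, ← Functor.map_comp_assoc,
          Category.assoc, Category.assoc, ← hd, ← he, ← Category.assoc d e' sR, Functor.map_comp_assoc,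
          Functor.map_comp_assoc (yon S) d' sR, hb'R]
        exact hRR _ _ (by rw [← hqR, Category.assoc, reassoc_of% he, reassoc_of% hd, pullback.condition])
  obtain ⟨G', ι, b'', E, p, hG', hι, hbι, hE, hp, hps⟩ := exists_qc_open hG b'
  haveI := hE
  haveI := AlgSpLib.mono_of_openImmersion hι
  have hsep' : IsSeparatedMor (ι ≫ π) := AlgSpLib.isSeparatedMor_comp (AlgSpLib.isSeparatedMor_of_repWith
    (AlgSpLib.repWith_mono (fun _ _ g (_ : IsOpenImmersion g) => (inferInstance : IsSeparated g)) hι)) hsep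
  obtain ⟨w, hw1, hw2⟩ := AlgSpLib.exists_fpqc_desc hG' hsep' hp hps q b'' (by rw [reassoc_of% hbι, hb'π])
    (by rw [← cancel_mono ι, Category.assoc, Category.assoc, hbι, heq])
  refine ⟨w ≫ ι, by rw [Category.assoc, hw2], ?_, fun T t h => ?_⟩
  · rw [← hqR, Functor.map_comp_assoc, reassoc_of% hw1, hbι, hb'R]
  · haveI : Flat (pullback.fst t q).left :=
      MorphismProperty.of_isPullback (P := @Flat) (AlgSpLib.left_isPullback t q).flip hfl
    haveI : Surjective (pullback.fst t q).left :=
      MorphismProperty.of_isPullback (P := @Surjective) (AlgSpLib.left_isPullback t q).flip hsu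
    haveI : QuasiCompact (pullback.fst t q).left :=
      MorphismProperty.of_isPullback (P := @QuasiCompact) (AlgSpLib.left_isPullback t q).flip inferInstance
    refine AlgSpLib.hom_eq_of_fpqc hsep (pullback.fst t q) _ _ ?_ ?_
    · rw [Category.assoc, Category.assoc, hw2, Category.comp_id, gπ]
    · have hav : K.Avoids (pullback.snd t q ≫ q) := by rw [← pullback.condition]; exact h.comp _
      rw [← Functor.map_comp_assoc, pullback.condition, Functor.map_comp_assoc, reassoc_of% hw1, hbι,
        hU' _ hav, ← gnat]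
      exact gU_congr pullback.condition.symm _ _

end GlueSepLib
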