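import Groth.Agent.GlueSepLib.Desc
import Groth.Agent.GlueSepLib.Chart
import Groth.Agent.GlueSepLib.BaseChange
import Groth.Agent.AlgSpLib.RepDescent
import Groth.Agent.AlgSpLib.Iso

/-!
# Morphisms to a separated space glued from the open part and a modification flat along the closed part
-/

set_option autoImplicit false
set_option backward.isDefEq.respectTransparency false
set_option backward.isDefEq.respectTransparency.types false

universe u

open CategoryTheory CategoryTheory.Limits AlgebraicGeometry Opposite AlgSp Topology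

namespace GlueSepLib

variable {S : Scheme.{u}} {X Y Z U X₁ X₂ AU AY AV : Sp S}

/-- A morphism on a chart `x` of `X₁` compatible with the given morphisms on the open part and on `Y`. -/
def Compat (aU : AU ⟶ X₁) (aY : AY ⟶ X₁) (cU : AU ⟶ X₂) (cY : AY ⟶ X₂) {V : Over S}
    (x : (yon S).obj V ⟶ X₁) (w : (yon S).obj V ⟶ X₂) : Prop :=
  (∀ (T : Over S) (t : T ⟶ V) (u : (yon S).obj T ⟶ AU),
    u ≫ aU = (yon S).map t ≫ x → (yon S).map t ≫ w = u ≫ cU) ∧
  ∀ (T : Over S) (t : T ⟶ V) (u : (yon S).obj T ⟶ AY),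
    u ≫ aY = (yon S).map t ≫ x → (yon S).map t ≫ w = u ≫ cY

theorem Compat.comp {aU : AU ⟶ X₁} {aY : AY ⟶ X₁} {cU : AU ⟶ X₂} {cY : AY ⟶ X₂} {V V' : Over S}
    {x : (yon S).obj V ⟶ X₁} {w : (yon S).obj V ⟶ X₂} (h : Compat aU aY cU cY x w) (g : V' ⟶ V) :
    Compat aU aY cU cY ((yon S).map g ≫ x) ((yon S).map g ≫ w) :=
  ⟨fun T t u hu => by rw [← Functor.map_comp_assoc]; exact h.1 T _ u (by rw [hu, Functor.map_comp_assoc]),
    fun T t u hu => by rw [← Functor.map_comp_assoc]; exact h.2 T _ u (by rw [hu, Functor.map_comp_assoc])⟩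

variable {f : Y ⟶ X} {i : Z ⟶ X} {j : U ⟶ X} (hj : RepWith @IsOpenImmersion j)
  (hU : Set.range (Points.map j) = (Set.range (Points.map i))ᶜ) {p₁ : X₁ ⟶ X} {p₂ : X₂ ⟶ X}
  (hp₂ : IsSeparatedMor p₂) {aU : AU ⟶ X₁} {rU : AU ⟶ U} (sqU : IsPullback aU rU p₁ j)
  {aY : AY ⟶ X₁} {rY : AY ⟶ Y} (sqY : IsPullback aY rY p₁ f) {mU : AV ⟶ AU} {mY : AV ⟶ AY}
  (sqV : IsPullback mU mY aU aY) {cU : AU ⟶ X₂} {cY : AY ⟶ X₂} (hcU : cU ≫ p₂ = aU ≫ p₁)
  (hcY : cY ≫ p₂ = aY ≫ p₁) (hcV : mU ≫ cU = mY ≫ cY)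

include hU sqU in
/-- A chart whose image lies in the open part avoids the closed subscheme. -/
theorem avoids_of_lift {V : Over S} {v : (yon S).obj V ⟶ X} (K : Cover f i v) {x : (yon S).obj V ⟶ X₁}
    (hx : x ≫ p₁ = v) {T : Over S} (t : T ⟶ V) (u : (yon S).obj T ⟶ AU)
    (hu : u ≫ aU = (yon S).map t ≫ x) : K.Avoids t := by
  rintro y ⟨w, hw⟩
  have h1 : Points.ofPt ((yon S).map t ≫ v) y ∈ Set.range (Points.map i) := by
    rw [AlgSpLib.ofPt_yon_comp, ← hw, ← AlgSpLib.ofPt_yon_comp, ← K.sqZ.w, ← ofPt_map_map]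
    exact ⟨_, rfl⟩
  have h2 : Points.ofPt ((yon S).map t ≫ v) y ∈ Set.range (Points.map j) := by
    rw [← hx, ← Category.assoc, ← hu, Category.assoc, sqU.w, ← Category.assoc, ← ofPt_map_map]
    exact ⟨_, rfl⟩
  rw [hU] at h2
  exact h2 h1

include hj hU hp₂ sqU sqY hcU hcY in
/-- The compatible morphism on a chart is unique. -/
theorem eq_of_compat {V : Over S} [IsAffine V.left] {v : (yon S).obj V ⟶ X} (K : Cover f i v)
    {x : (yon S).obj V ⟶ X₁} (hx : x ≫ p₁ = v) {w₁ w₂ : (yon S).obj V ⟶ X₂} (h₁p : w₁ ≫ p₂ = v)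
    (h₂p : w₂ ≫ p₂ = v) (h₁ : Compat aU aY cU cY x w₁) (h₂ : Compat aU aY cU cY x w₂) : w₁ = w₂ := by
  let π := pullback.snd p₂ v
  have hsep : IsSeparatedMor π :=
    AlgSpLib.repWith_diagonal_of_isPullback (IsPullback.of_hasPullback p₂ v) hp₂
  let s₁ : (yon S).obj V ⟶ pullback p₂ v := pullback.lift w₁ (𝟙 _) (by rw [h₁p, Category.id_comp])
  let s₂ : (yon S).obj V ⟶ pullback p₂ v := pullback.lift w₂ (𝟙 _) (by rw [h₂p, Category.id_comp])
  have hs : s₁ = s₂ := by
    refine K.hom_ext hsep (by rw [pullback.lift_snd, pullback.lift_snd]) ?_ fun T t ht => ?_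
    · apply pullback.hom_ext
      · simp only [s₁, s₂, Category.assoc, pullback.lift_fst]
        let u := sqY.lift ((yon S).map K.r ≫ x) K.l (by rw [Category.assoc, hx, K.hl])
        rw [h₁.2 K.R K.r u (sqY.lift_fst _ _ _), h₂.2 K.R K.r u (sqY.lift_fst _ _ _)]
      · simp [s₁, s₂]
    · apply pullback.hom_ext
      · simp only [s₁, s₂, Category.assoc, pullback.lift_fst]
        obtain ⟨a, ha⟩ := ht.exists_lift hj hU
        let u := sqU.lift ((yon S).map t ≫ x) a (by rw [Category.assoc, hx, ha])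
        rw [h₁.1 T t u (sqU.lift_fst _ _ _), h₂.1 T t u (sqU.lift_fst _ _ _)]
      · simp [s₁, s₂]
  simpa [s₁, s₂] using congrArg (· ≫ pullback.fst p₂ v) hs

include hj hU hp₂ sqU sqY sqV hcU hcY hcV in
/-- The compatible morphism on an affine scheme over a chart of `X` exists. -/
theorem exists_compat (hX : IsAlgSpace X) (hX₂ : IsAlgSpace X₂) {V₀ : Over S} [IsAffine V₀.left]
    {v₀ : (yon S).obj V₀ ⟶ X} (K₀ : Cover f i v₀) {E : Over S} (h : E ⟶ V₀) (a : (yon S).obj E ⟶ Y)
    (p : (yon S).obj E ⟶ pullback f v₀) (ρ : K₀.R ⟶ E) [IsAffine E.left] (hp : RepWith @Etale p)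
    (hps : RepWith @Surjective p) (hpsnd : p ≫ pullback.snd f v₀ = (yon S).map h)
    (hpfst : p ≫ pullback.fst f v₀ = a) (hρ : ρ ≫ h = K₀.r) (hl : (yon S).map ρ ≫ a = K₀.l) [Flat ρ.left]
    (hρZ : ∀ y : E.left, h.left y ∈ Set.range K₀.zi.left → y ∈ Set.range ρ.left)
    {V : Over S} [IsAffine V.left] (g : V ⟶ V₀) (x : (yon S).obj V ⟶ X₁) (hx : x ≫ p₁ = (yon S).map g ≫ v₀) :
    ∃ w : (yon S).obj V ⟶ X₂, w ≫ p₂ = x ≫ p₁ ∧ Compat aU aY cU cY x w := by
  let v := (yon S).map g ≫ v₀
  let K := K₀.baseChange g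
  let G := pullback p₂ v
  let π := pullback.snd p₂ v
  have hG : IsAlgSpace G := AlgSpLib.isAlgSpace_pullback hX₂ (IsAlgSpace.yon_obj V) hX p₂ v
  have hsep : IsSeparatedMor π :=
    AlgSpLib.repWith_diagonal_of_isPullback (IsPullback.of_hasPullback p₂ v) hp₂
  haveI := AlgSpLib.mono_of_openImmersion hj
  -- the open part
  choose lU hlU using fun (T : Over S) (t : T ⟶ V) (ht : K.Avoids t) => ht.exists_lift hj hU
  let uU : ∀ (T : Over S) (t : T ⟶ V), K.Avoids t → ((yon S).obj T ⟶ AU) := fun T t ht =>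
    sqU.lift ((yon S).map t ≫ x) (lU T t ht) (by rw [Category.assoc, hx, hlU])
  have huU : ∀ (T : Over S) (t : T ⟶ V) (ht : K.Avoids t), uU T t ht ≫ aU = (yon S).map t ≫ x :=
    fun T t ht => sqU.lift_fst _ _ _
  have uU_uniq : ∀ {T : Over S} (u u' : (yon S).obj T ⟶ AU), u ≫ aU = u' ≫ aU → u = u' := fun u u' e =>
    sqU.hom_ext e (by rw [← cancel_mono j, Category.assoc, Category.assoc, ← sqU.w, reassoc_of% e])
  let gU : ∀ (T : Over S) (t : T ⟶ V), K.Avoids t → ((yon S).obj T ⟶ G) := fun T t ht =>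
    pullback.lift (uU T t ht ≫ cU) ((yon S).map t) (by
      rw [Category.assoc, hcU, reassoc_of% (huU T t ht), hx])
  have gπ : ∀ (T : Over S) (t : T ⟶ V) (ht : K.Avoids t), gU T t ht ≫ π = (yon S).map t :=
    fun T t ht => pullback.lift_snd _ _ _
  have gnat : ∀ {T T' : Over S} (e : T' ⟶ T) (t : T ⟶ V) (ht : K.Avoids t),
      gU T' (e ≫ t) (ht.comp e) = (yon S).map e ≫ gU T t ht := by
    intro T T' e t ht
    apply pullback.hom_ext
    · simp only [gU, pullback.lift_fst, Category.assoc]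
      rw [← Category.assoc ((yon S).map e) (uU T t ht) cU]
      exact congrArg (· ≫ cU) (uU_uniq _ _ (by rw [huU, Category.assoc, huU, Functor.map_comp_assoc]))
    · simp [gU]
  -- the part along `Y`
  let uR : (yon S).obj K.R ⟶ AY := sqY.lift ((yon S).map K.r ≫ x) K.l (by rw [Category.assoc, hx, K.hl])
  let b : (yon S).obj K.R ⟶ G := pullback.lift (uR ≫ cY) ((yon S).map K.r) (by
    rw [Category.assoc, hcY, ← Category.assoc, sqY.lift_fst, Category.assoc, hx])
  have hUV : ∀ {T : Over S} (u : (yon S).obj T ⟶ AU) (u' : (yon S).obj T ⟶ AY), u ≫ aU = u' ≫ aY →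
      u ≫ cU = u' ≫ cY := fun u u' e => by
    rw [← sqV.lift_fst u u' e, Category.assoc, hcV, ← Category.assoc, sqV.lift_snd]
  have hbU : ∀ (T : Over S) (e : T ⟶ K.R) (ht : K.Avoids (e ≫ K.r)),
      (yon S).map e ≫ b = gU T (e ≫ K.r) ht := by
    intro T e ht
    apply pullback.hom_ext
    · simp only [gU, b, pullback.lift_fst, Category.assoc]
      rw [← Category.assoc ((yon S).map e) uR cY]
      exact (hUV _ _ (by rw [huU, Category.assoc, sqY.lift_fst, Functor.map_comp_assoc])).symm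
    · simp [gU, b]
  have hbC : (yon S).map (K.c ≫ pullback.fst K.r K.r) ≫ b = (yon S).map (K.c ≫ pullback.snd K.r K.r) ≫ b := by
    apply pullback.hom_ext
    · simp only [b, pullback.lift_fst, Category.assoc]
      rw [← Category.assoc _ uR cY, ← Category.assoc _ uR cY]
      refine congrArg (· ≫ cY) (sqY.hom_ext ?_ ?_)
      · rw [Category.assoc, Category.assoc, sqY.lift_fst, ← Functor.map_comp_assoc, ← Functor.map_comp_assoc,
          Category.assoc, Category.assoc, pullback.condition]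
      · rw [Category.assoc, Category.assoc, sqY.lift_snd]; exact K.eqC
    · simp only [b, Category.assoc, pullback.lift_snd]
      rw [← Functor.map_comp, ← Functor.map_comp, Category.assoc, Category.assoc, pullback.condition]
  obtain ⟨w, hw, hwR, hwU⟩ := K.exists_section hG hsep gU gπ gnat b (pullback.lift_snd _ _ _) hbU hbC
  refine ⟨w ≫ pullback.fst p₂ v, by rw [Category.assoc, pullback.condition, reassoc_of% hw, hx], ?_, ?_⟩
  · intro T t u hu
    have ht : K.Avoids t := avoids_of_lift hU sqU K hx t u hu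
    rw [reassoc_of% (hwU T t ht), pullback.lift_fst]
    exact congrArg (· ≫ cU) (uU_uniq _ _ (by rw [huU, hu]))
  · -- on the chart of the pullback of `Y`
    let E' := pullback h g
    let h' : E' ⟶ V := pullback.snd h g
    let uE : (yon S).obj E' ⟶ AY := sqY.lift ((yon S).map h' ≫ x) ((yon S).map (pullback.fst h g) ≫ a) (by
      rw [Category.assoc, hx, Category.assoc, ← hpfst, Category.assoc, pullback.condition, reassoc_of% hpsnd,
        ← Functor.map_comp_assoc, ← Functor.map_comp_assoc, pullback.condition])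
    have hE' : (yon S).map h' ≫ w ≫ pullback.fst p₂ v = uE ≫ cY := by
      haveI : IsAffine E'.left := IsAffine.of_isIso (AlgSpLib.left_isPullback h g).isoPullback.hom
      haveI := K.affR; haveI := K.closed; haveI := K.lfp
      let ρ' : K.R ⟶ E' := pullback.lift (pullback.fst K₀.r g ≫ ρ) K.r (by
        rw [Category.assoc, hρ]; exact pullback.condition)
      have sqρ : IsPullback (pullback.fst K₀.r g) ρ' ρ (pullback.fst h g) :=
        IsPullback.of_bot (show IsPullback (pullback.fst K₀.r g) (ρ' ≫ pullback.snd h g) (ρ ≫ h) g by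
          rw [hρ, pullback.lift_snd]; exact IsPullback.of_hasPullback K₀.r g)
          (pullback.lift_fst _ _ _).symm (IsPullback.of_hasPullback h g)
      haveI : Flat ρ'.left := MorphismProperty.of_isPullback (P := @Flat) (sqρ.map (Over.forget S)) ‹Flat ρ.left›
      let zi' := pullback.snd K.zi h'
      haveI : IsClosedImmersion zi'.left :=
        MorphismProperty.of_isPullback (P := @IsClosedImmersion) (AlgSpLib.left_isPullback K.zi h') K.closed
      haveI : LocallyOfFinitePresentation zi'.left :=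
        MorphismProperty.of_isPullback (P := @LocallyOfFinitePresentation) (AlgSpLib.left_isPullback K.zi h') K.lfp
      have hzr : ∀ y : E'.left, y ∈ Set.range zi'.left ↔ h'.left y ∈ Set.range K.zi.left := by
        intro y
        constructor
        · rintro ⟨w', rfl⟩
          refine ⟨(pullback.fst K.zi h').left w', ?_⟩
          rw [← Scheme.Hom.comp_apply, ← Scheme.Hom.comp_apply, ← Over.comp_left, ← Over.comp_left,
            pullback.condition]
        · rintro ⟨w', hw'⟩
          obtain ⟨q, -, hq⟩ := Scheme.Pullback.exists_preimage_pullback (f := K.zi.left) (g := h'.left) w' y hw'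
          refine ⟨(AlgSpLib.left_isPullback K.zi h').isoPullback.inv q, ?_⟩
          rw [← hq, ← Scheme.Hom.comp_apply, IsPullback.isoPullback_inv_snd]
      have hρ'Z : Set.range zi'.left ⊆ Set.range ρ'.left := by
        intro y hy
        obtain ⟨w', hw'⟩ := (hzr y).1 hy
        have hy0 : h.left ((pullback.fst h g).left y) ∈ Set.range K₀.zi.left := by
          refine ⟨(pullback.fst K₀.zi g).left w', ?_⟩
          rw [← Scheme.Hom.comp_apply, ← Scheme.Hom.comp_apply, ← Over.comp_left, ← Over.comp_left,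
            pullback.condition, pullback.condition, Over.comp_left, Over.comp_left, Scheme.Hom.comp_apply,
            Scheme.Hom.comp_apply]
          exact congrArg g.left hw'
        obtain ⟨r₀, hr₀⟩ := hρZ _ hy0
        have sqρl := sqρ.map (Over.forget S)
        obtain ⟨q, -, hq⟩ := Scheme.Pullback.exists_preimage_pullback (f := ρ.left)
          (g := (pullback.fst h g).left) r₀ y hr₀
        refine ⟨sqρl.isoPullback.inv q, ?_⟩
        rw [← hq]
        have e := sqρl.isoPullback_inv_snd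
        exact (Scheme.Hom.comp_apply _ _ _).symm.trans congr($(e) q)
      let π' := pullback.snd π ((yon S).map h')
      have hsep' : IsSeparatedMor π' :=
        AlgSpLib.repWith_diagonal_of_isPullback (IsPullback.of_hasPullback π ((yon S).map h')) hsep
      have hpE : (uE ≫ cY) ≫ p₂ = (yon S).map h' ≫ v := by
        rw [Category.assoc, hcY, ← Category.assoc, sqY.lift_fst, Category.assoc, hx]
      let s₁ := pullback.lift (f := π) (g := (yon S).map h') ((yon S).map h' ≫ w) (𝟙 _)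
        (by rw [Category.assoc, hw, Category.comp_id, Category.id_comp])
      let s₂ := pullback.lift (f := π) (g := (yon S).map h') (pullback.lift (uE ≫ cY) ((yon S).map h') hpE) (𝟙 _)
        (by rw [pullback.lift_snd, Category.id_comp])
      have hρ'r : ρ' ≫ h' = K.r := pullback.lift_snd _ _ _
      have key : s₁ = s₂ := by
        refine hom_ext_of_flat zi' ρ' hρ'Z hsep' (by rw [pullback.lift_snd, pullback.lift_snd]) ?_ fun T t ht => ?_
        · apply pullback.hom_ext
          · simp only [s₁, s₂, Category.assoc, pullback.lift_fst]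
            rw [← Functor.map_comp_assoc, hρ'r, hwR]
            apply pullback.hom_ext
            · simp only [b, pullback.lift_fst, Category.assoc]
              rw [← Category.assoc _ uE cY]
              refine congrArg (· ≫ cY) (sqY.hom_ext ?_ ?_)
              · rw [sqY.lift_fst, Category.assoc, sqY.lift_fst, ← Functor.map_comp_assoc, hρ'r]
              · rw [sqY.lift_snd, Category.assoc, sqY.lift_snd, ← Functor.map_comp_assoc, pullback.lift_fst,
                  Functor.map_comp_assoc, hl]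
                rfl
            · simp only [b, pullback.lift_snd, Category.assoc]
              rw [← Functor.map_comp, hρ'r]
          · simp [s₁, s₂]
        · apply pullback.hom_ext
          · simp only [s₁, s₂, Category.assoc, pullback.lift_fst]
            have ht' : K.Avoids (t ≫ h') := fun y hy => ht y ((hzr _).2 hy)
            rw [← Functor.map_comp_assoc, hwU T _ ht']
            apply pullback.hom_ext
            · simp only [gU, pullback.lift_fst, Category.assoc]
              rw [← Category.assoc _ uE cY]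
              exact hUV _ _ (by rw [huU, Category.assoc, sqY.lift_fst, Functor.map_comp_assoc])
            · simp [gU]
          · simp [s₁, s₂]
      have e := congrArg (fun k => k ≫ pullback.fst π ((yon S).map h') ≫ pullback.fst p₂ v) key
      simpa [s₁, s₂] using e
    intro T t u hu
    let P₀ : (yon S).obj T ⟶ pullback f v₀ := pullback.lift (u ≫ rY) ((yon S).map (t ≫ g)) (by
      rw [Category.assoc, ← sqY.w, reassoc_of% hu, hx, Functor.map_comp_assoc])
    obtain ⟨W, k, q, sqW⟩ := AlgSpLib.exists_isPullback_yon p P₀ hp.rep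
    haveI : Etale q.left := AlgSpLib.etale_left (AlgSpLib.repWith_of_isPullback sqW hp)
    haveI : Surjective q.left := AlgSpLib.surjective_left (AlgSpLib.repWith_of_isPullback sqW hps)
    haveI := AlgSpLib.isLocallySurjective_yon_map q
    have hk : k ≫ h = q ≫ t ≫ g := (yon S).map_injective (by
      rw [Functor.map_comp, ← hpsnd, reassoc_of% sqW.w, pullback.lift_snd, ← Functor.map_comp])
    let e : W ⟶ E' := pullback.lift k (q ≫ t) (by rw [hk, Category.assoc])
    have hek : e ≫ h' = q ≫ t := pullback.lift_snd _ _ _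
    rw [← cancel_epi ((yon S).map q), ← Functor.map_comp_assoc, ← hek,
      Functor.map_comp_assoc, hE', ← Category.assoc, ← Category.assoc ((yon S).map q) u cY]
    refine congrArg (· ≫ cY) (sqY.hom_ext ?_ ?_)
    · rw [Category.assoc, sqY.lift_fst, Category.assoc, hu, ← Functor.map_comp_assoc, pullback.lift_snd,
        Functor.map_comp_assoc]
    · rw [Category.assoc, sqY.lift_snd, ← Functor.map_comp_assoc, pullback.lift_fst, ← hpfst,
        reassoc_of% sqW.w, pullback.lift_fst, Category.assoc]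

include hj hU hp₂ sqU sqY sqV hcU hcY hcV in
/-- The glued morphism exists and is unique. -/
theorem existsUnique_hom (hX : IsAlgSpace X) (hY : IsAlgSpace Y) (hX₁ : IsAlgSpace X₁) (hX₂ : IsAlgSpace X₂)
    {FZ : Sp S} (hqc : IsQuasiCompactMor f) (hqs : IsQuasiSeparatedMor f) (hi : RepWith @IsClosedImmersion i)
    (hifp : LocP @LocallyOfFinitePresentation i) {iY : FZ ⟶ Y} {fZ : FZ ⟶ Z} (hFZ : IsPullback iY fZ f i)
    [IsIso fZ] (hflat : ∀ y ∈ Set.range (Points.map iY), IsFlatAtMor f y) :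
    ∃! w : X₁ ⟶ X₂, w ≫ p₂ = p₁ ∧ aU ≫ w = cU ∧ aY ≫ w = cY := by
  obtain ⟨U₀, b₀, hb₀, hb₀s⟩ := hX.atlas
  obtain ⟨U₁, x₁, h₁, hx₁, hx₁s, hxh⟩ := AlgSpLib.exists_chart_over hX₁ hX p₁ b₀ hb₀ hb₀s
  haveI := AlgSpLib.isLocallySurjective_of_etale_surjective (IsAlgSpace.yon_obj U₁) hX₁
    (AlgSpLib.isEtaleMor_of_repWith hx₁) (AlgSpLib.map_surjective_of_repWith hx₁s)
  -- affine pieces lying over affine opens of the atlas
  let κ := { O : U₀.left.affineOpens × U₁.left.affineOpens // O.2.1 ≤ h₁.left ⁻¹ᵁ O.1.1 }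
  let O₀ : κ → Over S := fun k => Over.mk (k.1.1.1.ι ≫ U₀.hom)
  let O₁ : κ → Over S := fun k => Over.mk (k.1.2.1.ι ≫ U₁.hom)
  let g : ∀ k : κ, O₁ k ⟶ O₀ k := fun k => Over.homMk (h₁.left.resLE k.1.1.1 k.1.2.1 k.2) (by
    change h₁.left.resLE _ _ _ ≫ k.1.1.1.ι ≫ U₀.hom = k.1.2.1.ι ≫ U₁.hom
    rw [Scheme.Hom.resLE_comp_ι_assoc, Over.w h₁])
  let ι₁ : ∀ k : κ, O₁ k ⟶ U₁ := fun k => Over.homMk k.1.2.1.ι rfl
  let ι₀ : ∀ k : κ, O₀ k ⟶ U₀ := fun k => Over.homMk k.1.1.1.ι rfl
  have hι : ∀ k, ι₁ k ≫ h₁ = g k ≫ ι₀ k := fun k =>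
    Over.OverMorphism.ext (Scheme.Hom.resLE_comp_ι _ _).symm
  have hO₁ : ∀ k, IsOpenImmersion (ι₁ k).left := fun k => inferInstanceAs (IsOpenImmersion k.1.2.1.ι)
  have hcov : ∀ z : U₁.left, ∃ k, z ∈ Set.range (ι₁ k).left := by
    intro z
    obtain ⟨A, hA, hzA, -⟩ := exists_isAffineOpen_mem_and_subset (U := (⊤ : U₀.left.Opens)) (x := h₁.left z) trivial
    obtain ⟨B, hB, hzB, hBA⟩ := exists_isAffineOpen_mem_and_subset (U := h₁.left ⁻¹ᵁ A) (x := z) hzA
    exact ⟨⟨(⟨A, hA⟩, ⟨B, hB⟩), hBA⟩, ⟨z, hzB⟩, rfl⟩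
  haveI hA₀ : ∀ k, IsAffine (O₀ k).left := fun k => k.1.1.2
  haveI hA₁ : ∀ k, IsAffine (O₁ k).left := fun k => k.1.2.2
  have hv : ∀ k, RepWith @Etale ((yon S).map (ι₀ k) ≫ b₀) := fun k => AlgSpLib.repWith_comp
    ((repWith_yon_map_iff (P := (@Etale : MorphismProperty Scheme.{u})) (ι₀ k)).2
      (inferInstanceAs (Etale k.1.1.1.ι))) hb₀
  choose K E h a p ρ hE hp hps hpsnd hpfst hρ hl hρfl hρZ using fun k =>
    exists_cover hX hY hqc hqs hi hifp hFZ hflat (O₀ k) _ (hv k)
  have hxk : ∀ k, ((yon S).map (ι₁ k) ≫ x₁) ≫ p₁ = (yon S).map (g k) ≫ (yon S).map (ι₀ k) ≫ b₀ := fun k => by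
    rw [Category.assoc, hxh, ← Functor.map_comp_assoc, hι, Functor.map_comp_assoc]
  choose w hwp hwc using fun k =>
    haveI := hE k; haveI := hρfl k
    exists_compat hj hU hp₂ sqU sqY sqV hcU hcY hcV hX hX₂ (K k) (h k) (a k) (p k) (ρ k) (hp k) (hps k)
      (hpsnd k) (hpfst k) (hρ k) (hl k) (hρZ k) (g k) _ (hxk k)
  -- agreement on overlaps
  have agree : ∀ (k l : κ) (T : Over S) (t : T ⟶ O₁ k) (t' : T ⟶ O₁ l),
      (yon S).map (t ≫ ι₁ k) ≫ x₁ = (yon S).map (t' ≫ ι₁ l) ≫ x₁ →
      (yon S).map t ≫ w k = (yon S).map t' ≫ w l := by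
    intro k l T t t' e
    refine hom_ext_cover (κ := T.left.affineOpens) (W := fun A => Over.mk (A.1.ι ≫ T.hom))
      (fun A => Over.homMk A.1.ι rfl) (fun A => inferInstanceAs (IsOpenImmersion A.1.ι)) (fun z => ?_) fun A => ?_
    · obtain ⟨A, hA, hzA, -⟩ := exists_isAffineOpen_mem_and_subset (U := (⊤ : T.left.Opens)) (x := z) trivial
      exact ⟨⟨A, hA⟩, ⟨z, hzA⟩, rfl⟩
    · let s : Over.mk (A.1.ι ≫ T.hom) ⟶ T := Over.homMk A.1.ι rfl
      change (yon S).map s ≫ _ = (yon S).map s ≫ _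
      haveI : IsAffine (Over.mk (A.1.ι ≫ T.hom)).left := A.2
      rw [← Functor.map_comp_assoc, ← Functor.map_comp_assoc]
      let KT := (K k).baseChange ((s ≫ t) ≫ g k)
      have hxx : (yon S).map (s ≫ t) ≫ (yon S).map (ι₁ k) ≫ x₁ =
          (yon S).map (s ≫ t') ≫ (yon S).map (ι₁ l) ≫ x₁ := by
        have := congrArg (fun m => (yon S).map s ≫ m) e
        simpa only [Functor.map_comp, Category.assoc] using this
      have hxT : ((yon S).map (s ≫ t) ≫ (yon S).map (ι₁ k) ≫ x₁) ≫ p₁ =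
          (yon S).map ((s ≫ t) ≫ g k) ≫ (yon S).map (ι₀ k) ≫ b₀ := by
        rw [Category.assoc, hxk, Functor.map_comp_assoc (yon S) (s ≫ t)]
      refine eq_of_compat hj hU hp₂ sqU sqY hcU hcY KT hxT ?_ ?_ ((hwc k).comp _) (hxx ▸ (hwc l).comp _)
      · rw [Category.assoc, hwp, ← hxT]; simp only [Category.assoc]
      · rw [Category.assoc, hwp, ← hxT, hxx]; simp only [Category.assoc]
  -- glueing on the atlas
  obtain ⟨wA, hwA⟩ : ∃ wA : (yon S).obj U₁ ⟶ X₂, ∀ k, (yon S).map (ι₁ k) ≫ wA = w k := by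
    have hsf := (isSheaf_iff_isSheaf_of_type _ _).1 X₂.property _
      (AlgSpLib.ofArrows_mem_J ι₁ (fun k => inferInstance) (fun k => inferInstance) hcov)
    rw [Sieve.ofArrows, ← Presieve.isSheafFor_iff_generate] at hsf
    let e := fun (T : Over S) =>
      (GrothendieckTopology.uliftYonedaEquiv.{u + 1} (J := AlgSp.J S) (X := T) (F := X₂))
    obtain ⟨s, hs, -⟩ := (Presieve.isSheafFor_arrows_iff X₂.obj ι₁).1 hsf (fun k => e _ (w k))
      (fun k l T t t' ht => by
        rw [GrothendieckTopology.uliftYonedaEquiv_naturality, GrothendieckTopology.uliftYonedaEquiv_naturality]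
        exact congrArg (e T) (agree k l T t t' (by rw [ht])))
    refine ⟨(e U₁).symm s, fun k => (e _).injective ?_⟩
    rw [← GrothendieckTopology.uliftYonedaEquiv_naturality, Equiv.apply_symm_apply]
    exact hs k
  -- descent to `X₁`
  have hdesc : ∀ (T : Over S) (t t' : (yon S).obj T ⟶ (yon S).obj U₁), t ≫ x₁ = t' ≫ x₁ →
      t ≫ wA = t' ≫ wA := by
    intro T t t' e
    obtain ⟨t, rfl⟩ := (yon S).map_surjective t
    obtain ⟨t', rfl⟩ := (yon S).map_surjective t'
    refine hom_ext_pullback_cover ι₁ hO₁ hcov t ?_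
    intro k P d d' hd
    refine hom_ext_pullback_cover ι₁ hO₁ hcov (d ≫ t') ?_
    intro l Q c c' hc
    have e1 : c ≫ d ≫ t = (c ≫ d') ≫ ι₁ k := by rw [Category.assoc, hd]
    rw [← Functor.map_comp_assoc, ← Functor.map_comp_assoc, ← Functor.map_comp_assoc, ← Functor.map_comp_assoc,
      Category.assoc, Category.assoc, e1, ← hc, Functor.map_comp_assoc (yon S) _ (ι₁ k), hwA,
      Functor.map_comp_assoc (yon S) _ (ι₁ l), hwA]
    refine agree k l Q _ _ ?_
    rw [← e1, hc, Functor.map_comp_assoc, Functor.map_comp_assoc, e, ← Functor.map_comp_assoc,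
      ← Functor.map_comp_assoc, Category.assoc]
  obtain ⟨w', hw'⟩ := AlgSpLib.exists_desc x₁ wA hdesc
  -- properties are tested on the pieces
  have ext₁ : ∀ {G : Sp S} (m m' : X₁ ⟶ G),
      (∀ k, ((yon S).map (ι₁ k) ≫ x₁) ≫ m = ((yon S).map (ι₁ k) ≫ x₁) ≫ m') → m = m' := fun m m' hm => by
    rw [← cancel_epi x₁]
    exact hom_ext_cover ι₁ hO₁ hcov fun k => by simpa only [Category.assoc] using hm k
  have extA : ∀ {A : Sp S} (α : A ⟶ X₁) (c : A ⟶ X₂), (∀ (k : κ) (T : Over S) (t : T ⟶ O₁ k)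
      (u : (yon S).obj T ⟶ A), u ≫ α = (yon S).map t ≫ (yon S).map (ι₁ k) ≫ x₁ →
        (yon S).map t ≫ w k = u ≫ c) → α ≫ w' = c := by
    intro A α c hc
    refine GrothendieckTopology.hom_ext_uliftYoneda.{u + 1} (AlgSp.J S) fun T u => ?_
    change (yon S).obj T ⟶ A at u
    change u ≫ α ≫ w' = u ≫ c
    obtain ⟨W, q, k, sqW⟩ := AlgSpLib.exists_isPullback_yon x₁ (u ≫ α) hx₁.rep
    haveI : Etale k.left := AlgSpLib.etale_left (AlgSpLib.repWith_of_isPullback sqW hx₁)
    haveI : Surjective k.left := AlgSpLib.surjective_left (AlgSpLib.repWith_of_isPullback sqW hx₁s)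
    haveI := AlgSpLib.isLocallySurjective_yon_map k
    rw [← cancel_epi ((yon S).map k)]
    refine hom_ext_pullback_cover ι₁ hO₁ hcov q ?_
    intro m P d d' hd
    have e : ((yon S).map (d ≫ k) ≫ u) ≫ α = (yon S).map d' ≫ (yon S).map (ι₁ m) ≫ x₁ := by
      rw [Category.assoc, Functor.map_comp_assoc, ← sqW.w, ← Functor.map_comp_assoc, ← hd, Functor.map_comp_assoc]
    have h2 := hc m P d' ((yon S).map (d ≫ k) ≫ u) e
    simp only [Functor.map_comp, Category.assoc] at h2 e ⊢
    rw [← h2, reassoc_of% e, hw', hwA]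
  refine ⟨w', ⟨ext₁ _ _ fun k => ?_, extA aU cU fun k => (hwc k).1, extA aY cY fun k => (hwc k).2⟩, ?_⟩
  · rw [← hwp, ← hwA, ← hw']; simp only [Category.assoc]
  · rintro m ⟨hmp, hmU, hmY⟩
    refine ext₁ _ _ fun k => ?_
    rw [Category.assoc (f := (yon S).map (ι₁ k)) (h := w'), hw', hwA]
    refine eq_of_compat hj hU hp₂ sqU sqY hcU hcY ((K k).baseChange (g k)) (hxk k)
      (by rw [Category.assoc, hmp, hxk]) (by rw [hwp, hxk]) ⟨?_, ?_⟩ (hwc k)
    · intro T t u hu
      rw [← Category.assoc _ _ m, ← hu, Category.assoc, hmU]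
    · intro T t u hu
      rw [← Category.assoc _ _ m, ← hu, Category.assoc, hmY]

end GlueSepLib
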