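import Groth.Agent.GlueSepLib.Alg

/-!
# Closed subschemes detected on the open part and on a cover flat along a closed subscheme
-/

set_option autoImplicit false
set_option backward.isDefEq.respectTransparency false
set_option backward.isDefEq.respectTransparency.types false

universe u

open CategoryTheory CategoryTheory.Limits AlgebraicGeometry TensorProduct

namespace GlueSepLib

/-- The ring form of `isIso_of_cover`. -/
theorem isIso_of_cover_spec {A L C : CommRingCat.{u}} (ρ : A ⟶ L) (σ : L ⟶ C) {ZV E : Scheme.{u}} (i : ZV ⟶ Spec A)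
    [IsClosedImmersion i] [LocallyOfFinitePresentation i] [Flat (Spec.map ρ)] [Flat (Spec.map σ ≫ Spec.map ρ)]
    (hff : ∀ (T : Scheme.{u}) (t : T ⟶ Spec L), (∃ z, z ≫ i = t ≫ Spec.map ρ) →
      Flat (pullback.snd (Spec.map σ) t) ∧ Surjective (pullback.snd (Spec.map σ) t))
    (ι : E ⟶ Spec L) [IsClosedImmersion ι] (hc : ∃ l, l ≫ ι = Spec.map σ)
    (hopen : ∀ (T : Scheme.{u}) (t : T ⟶ Spec L), (∀ x, (t ≫ Spec.map ρ) x ∉ Set.range i) → ∃ l, l ≫ ι = t) :
    IsIso ι := by
  algebraize [ρ.hom, σ.hom, σ.hom.comp ρ.hom]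
  haveI : Module.Flat A L := RingHom.flat_algebraMap_iff.1 ((HasRingHomProperty.Spec_iff (P := @Flat)).1 ‹Flat (Spec.map ρ)›)
  haveI : Module.Flat A C := RingHom.flat_algebraMap_iff.1 ((HasRingHomProperty.Spec_iff (P := @Flat)).1
    (show Flat (Spec.map (ρ ≫ σ)) by rw [Spec.map_comp]; infer_instance))
  obtain ⟨I, eI, hI⟩ := IsClosedImmersion.Spec_iff.1 ‹IsClosedImmersion i›
  have hIfg : I.FG := by
    have h1 : LocallyOfFinitePresentation (Spec.map (CommRingCat.ofHom (Ideal.Quotient.mk I))) := by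
      have e : Spec.map (CommRingCat.ofHom (Ideal.Quotient.mk I)) = eI.inv ≫ i := by rw [hI, eI.inv_hom_id_assoc]
      rw [e]; infer_instance
    have h2 : (Ideal.Quotient.mk I).FinitePresentation :=
      (HasRingHomProperty.Spec_iff (P := @LocallyOfFinitePresentation)).1 h1
    haveI : Algebra.FinitePresentation A (A ⧸ I) := RingHom.finitePresentation_algebraMap.1 h2
    have h3 := Algebra.FinitePresentation.ker_fG_of_surjective (Ideal.Quotient.mkₐ A I) Ideal.Quotient.mk_surjective
    simpa [Ideal.mk_ker] using h3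
  let φ : L →ₐ[A] C := { σ.hom with commutes' := fun _ => rfl }
  let g : L ⊗[A] (A ⧸ I) →+* C ⊗[A] (A ⧸ I) := (Algebra.TensorProduct.map φ (AlgHom.id A (A ⧸ I))).toRingHom
  have hg : g.FaithfullyFlat := by
    let tL : Spec (CommRingCat.of (L ⊗[A] (A ⧸ I))) ⟶ Spec L :=
      Spec.map (CommRingCat.ofHom Algebra.TensorProduct.includeLeftRingHom)
    have hA : CommRingCat.ofHom (algebraMap A (A ⧸ I)) = CommRingCat.ofHom (Ideal.Quotient.mk I) := rfl
    obtain ⟨hfl, hsu⟩ := hff _ tL ⟨Spec.map (CommRingCat.ofHom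
      (Algebra.TensorProduct.includeRight (R := A) (A := L) (B := A ⧸ I)).toRingHom) ≫ eI.inv, by
        rw [Category.assoc, hI, eI.inv_hom_id_assoc, ← Spec.map_comp, ← Spec.map_comp]
        refine congrArg Spec.map (CommRingCat.hom_ext (RingHom.ext fun a => ?_))
        exact ((Algebra.TensorProduct.includeRight (R := A) (A := L) (B := A ⧸ I)).commutes a)⟩
    have sq1 : IsPullback tL
        (Spec.map (CommRingCat.ofHom (Algebra.TensorProduct.includeRight (R := A) (A := L) (B := A ⧸ I)).toRingHom))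
        (Spec.map ρ) (Spec.map (CommRingCat.ofHom (algebraMap A (A ⧸ I)))) :=
      isPullback_SpecMap_of_isPushout _ _ _ _ (CommRingCat.isPushout_tensorProduct A L (A ⧸ I))
    have sq2 : IsPullback (Spec.map (CommRingCat.ofHom (Algebra.TensorProduct.includeLeftRingHom (A := C) (B := A ⧸ I) (R := A))))
        (Spec.map (CommRingCat.ofHom (Algebra.TensorProduct.includeRight (R := A) (A := C) (B := A ⧸ I)).toRingHom))
        (Spec.map σ ≫ Spec.map ρ) (Spec.map (CommRingCat.ofHom (algebraMap A (A ⧸ I)))) := by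
      rw [← Spec.map_comp]
      exact isPullback_SpecMap_of_isPushout _ _ _ _ (CommRingCat.isPushout_tensorProduct A C (A ⧸ I))
    have sq3 : IsPullback (Spec.map (CommRingCat.ofHom g))
        (Spec.map (CommRingCat.ofHom (Algebra.TensorProduct.includeLeftRingHom (A := C) (B := A ⧸ I) (R := A))))
        tL (Spec.map σ) := by
      refine (IsPullback.of_bot (h₁₁ := _) ?_ ?_ sq1).flip
      · have e : Spec.map (CommRingCat.ofHom g) ≫
            Spec.map (CommRingCat.ofHom (Algebra.TensorProduct.includeRight (R := A) (A := L) (B := A ⧸ I)).toRingHom) =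
            Spec.map (CommRingCat.ofHom (Algebra.TensorProduct.includeRight (R := A) (A := C) (B := A ⧸ I)).toRingHom) := by
          rw [← Spec.map_comp]
          exact congrArg Spec.map (CommRingCat.hom_ext (RingHom.ext fun a => by simp [g]))
        rw [e]; exact sq2
      · rw [← Spec.map_comp, ← Spec.map_comp]
        exact congrArg Spec.map (CommRingCat.hom_ext (RingHom.ext fun a => by simp [g, φ, RingHom.algebraMap_toAlgebra]))
    have e := sq3.flip.isoPullback_hom_snd
    haveI := hfl; haveI := hsu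
    have hgf : Flat (Spec.map (CommRingCat.ofHom g)) := by rw [← e]; infer_instance
    have hgs : Surjective (Spec.map (CommRingCat.ofHom g)) := by rw [← e]; infer_instance
    refine RingHom.FaithfullyFlat.iff_flat_and_comap_surjective.2
      ⟨(HasRingHomProperty.Spec_iff (P := @Flat)).1 hgf, ?_⟩
    exact hgs.surj
  obtain ⟨K, eK, hK⟩ := IsClosedImmersion.Spec_iff.1 ‹IsClosedImmersion ι›
  have hzero : ∀ k ∈ K, k = 0 := by
    intro k hk
    have hφ : φ k = 0 := by
      obtain ⟨l, hl⟩ := hc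
      obtain ⟨ψ, hψ⟩ := Spec.map_surjective (l ≫ eK.hom)
      have : CommRingCat.ofHom (Ideal.Quotient.mk K) ≫ ψ = σ := Spec.map_injective (by
        rw [Spec.map_comp, hψ, Category.assoc, ← hK, hl])
      change σ.hom k = 0
      rw [← this]
      simp [Ideal.Quotient.eq_zero_iff_mem.2 hk]
    let Ann : Ideal A := LinearMap.ker (LinearMap.toSpanSingleton A L k)
    have hann : I ≤ Ann.radical := by
      intro f hf
      obtain ⟨l, hl⟩ := hopen (Spec (CommRingCat.of (Localization.Away (algebraMap A L f))))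
        (Spec.map (CommRingCat.ofHom (algebraMap L (Localization.Away (algebraMap A L f))))) (by
          intro x hx
          rw [hI, Scheme.Hom.comp_base, TopCat.coe_comp, Set.range_comp] at hx
          obtain ⟨y, -, hy⟩ := hx
          have hy' : f ∈ ((Spec.map (CommRingCat.ofHom (Ideal.Quotient.mk I))) y).asIdeal := by
            change Ideal.Quotient.mk I f ∈ y.asIdeal
            rw [Ideal.Quotient.eq_zero_iff_mem.2 hf]; exact zero_mem _
          erw [hy] at hy'
          exact x.isPrime.ne_top (x.asIdeal.eq_top_of_isUnit_mem hy' (IsLocalization.Away.algebraMap_isUnit (algebraMap A L f))))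
      obtain ⟨ψ, hψ⟩ := Spec.map_surjective (l ≫ eK.hom)
      have he : CommRingCat.ofHom (Ideal.Quotient.mk K) ≫ ψ =
          CommRingCat.ofHom (algebraMap L (Localization.Away (algebraMap A L f))) := Spec.map_injective (by
        rw [Spec.map_comp, hψ, Category.assoc, ← hK, hl])
      have h0 : algebraMap L (Localization.Away (algebraMap A L f)) k = 0 := by
        change (CommRingCat.ofHom (algebraMap L (Localization.Away (algebraMap A L f)))).hom k = 0
        rw [← he]
        simp [Ideal.Quotient.eq_zero_iff_mem.2 hk]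
      obtain ⟨⟨_, m, rfl⟩, hm⟩ := (IsLocalization.map_eq_zero_iff
        (Submonoid.powers (algebraMap A L f)) (Localization.Away (algebraMap A L f)) k).1 h0
      refine ⟨m, ?_⟩
      change f ^ m • k = 0
      rw [Algebra.smul_def, map_pow]; exact hm
    obtain ⟨n, hn⟩ := Ideal.exists_pow_le_of_le_radical_of_fg hann hIfg
    exact eq_zero_of_pow_smul φ I hIfg hg k n (fun i hi => by
      rw [← Algebra.smul_def]; exact hn hi) hφ
  haveI : IsIso (Spec.map (CommRingCat.ofHom (Ideal.Quotient.mk K))) := by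
    haveI : IsIso (CommRingCat.ofHom (Ideal.Quotient.mk K)) := (ConcreteCategory.isIso_iff_bijective _).2
      ⟨(injective_iff_map_eq_zero _).2 fun k hk => hzero k (Ideal.Quotient.eq_zero_iff_mem.1 hk),
        Ideal.Quotient.mk_surjective⟩
    infer_instance
  rw [hK]; infer_instance

/-- A closed subscheme of `L` containing the part over the open complement of `ZV`, and a `C ⟶ L` which is
flat over `V` and faithfully flat over `ZV`, is everything. -/
theorem isIso_of_cover {V L C ZV E : Scheme.{u}} [IsAffine V] [IsAffine L] [IsAffine C] (i : ZV ⟶ V)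
    [IsClosedImmersion i] [LocallyOfFinitePresentation i] (p : L ⟶ V) [Flat p] (c : C ⟶ L) [Flat (c ≫ p)]
    (hff : ∀ (T : Scheme.{u}) (t : T ⟶ L), (∃ z, z ≫ i = t ≫ p) →
      Flat (pullback.snd c t) ∧ Surjective (pullback.snd c t))
    (ι : E ⟶ L) [IsClosedImmersion ι] (hc : ∃ l, l ≫ ι = c)
    (hopen : ∀ (T : Scheme.{u}) (t : T ⟶ L), (∀ x, (t ≫ p) x ∉ Set.range i) → ∃ l, l ≫ ι = t) :
    IsIso ι := by
  obtain ⟨ρ, hρ⟩ := Spec.map_surjective (L.isoSpec.inv ≫ p ≫ V.isoSpec.hom)
  obtain ⟨σ, hσ⟩ := Spec.map_surjective (C.isoSpec.inv ≫ c ≫ L.isoSpec.hom)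
  haveI : Flat (Spec.map ρ) := by rw [hρ]; infer_instance
  have e : Spec.map σ ≫ Spec.map ρ = C.isoSpec.inv ≫ (c ≫ p) ≫ V.isoSpec.hom := by rw [hρ, hσ]; simp
  haveI : Flat (Spec.map σ ≫ Spec.map ρ) := by rw [e]; infer_instance
  have h := isIso_of_cover_spec ρ σ (i ≫ V.isoSpec.hom) (fun T t ht => ?_) (ι ≫ L.isoSpec.hom) ?_ ?_
  · exact IsIso.of_isIso_comp_right ι L.isoSpec.hom
  · obtain ⟨z, hz⟩ := ht
    obtain ⟨hfl, hsu⟩ := hff T (t ≫ L.isoSpec.inv) ⟨z, by
      rw [← cancel_mono V.isoSpec.hom, Category.assoc, hz, hρ]; simp⟩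
    have sq : IsPullback (pullback.fst (Spec.map σ) t ≫ C.isoSpec.inv) (pullback.snd (Spec.map σ) t) c
        (t ≫ L.isoSpec.inv) := by
      refine IsPullback.of_iso (IsPullback.of_hasPullback (Spec.map σ) t) (Iso.refl _) C.isoSpec.symm (Iso.refl _)
        L.isoSpec.symm (by simp) (by simp) ?_ (by simp)
      rw [hσ]; simp
    rw [← sq.isoPullback_hom_snd]
    haveI := hfl; haveI := hsu
    exact ⟨inferInstance, inferInstance⟩
  · obtain ⟨l, hl⟩ := hc
    exact ⟨C.isoSpec.inv ≫ l, by rw [hσ, ← hl]; simp⟩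
  · intro T t ht
    obtain ⟨l, hl⟩ := hopen T (t ≫ L.isoSpec.inv) (fun x hx => by
      refine ht x ?_
      obtain ⟨y, hy⟩ := hx
      refine ⟨y, ?_⟩
      have e' : t ≫ Spec.map ρ = ((t ≫ L.isoSpec.inv) ≫ p) ≫ V.isoSpec.hom := by rw [hρ]; simp
      rw [e']
      exact congrArg (V.isoSpec.hom) hy)
    exact ⟨l, by rw [← Category.assoc, hl]; simp⟩

/-- The complement of a closed subscheme of finite presentation of an affine scheme is quasi-compact. -/
theorem isCompact_compl_range {V ZV : Scheme.{u}} [IsAffine V] (i : ZV ⟶ V) [IsClosedImmersion i]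
    [LocallyOfFinitePresentation i] : IsCompact (Set.range i)ᶜ := by
  obtain ⟨I, e, hI⟩ := IsClosedImmersion.Spec_iff.1 (inferInstance : IsClosedImmersion (i ≫ V.isoSpec.hom))
  have hIfg : I.FG := by
    have h1 : LocallyOfFinitePresentation (Spec.map (CommRingCat.ofHom (Ideal.Quotient.mk I))) := by
      have e' : Spec.map (CommRingCat.ofHom (Ideal.Quotient.mk I)) = e.inv ≫ i ≫ V.isoSpec.hom := by
        rw [hI, e.inv_hom_id_assoc]
      rw [e']; infer_instance
    haveI : Algebra.FinitePresentation Γ(V, ⊤) (Γ(V, ⊤) ⧸ I) := RingHom.finitePresentation_algebraMap.1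
      ((HasRingHomProperty.Spec_iff (P := @LocallyOfFinitePresentation)).1 h1)
    simpa [Ideal.mk_ker] using
      Algebra.FinitePresentation.ker_fG_of_surjective (Ideal.Quotient.mkₐ Γ(V, ⊤) I) Ideal.Quotient.mk_surjective
  have h2 : IsCompact (PrimeSpectrum.zeroLocus (I : Set Γ(V, ⊤)))ᶜ := by
    simpa using (PrimeSpectrum.isRetrocompact_zeroLocus_compl_of_fg hIfg) isCompact_univ isOpen_univ
  have h3 : Set.range (i ≫ V.isoSpec.hom) = PrimeSpectrum.zeroLocus (I : Set Γ(V, ⊤)) := by
    rw [hI, Scheme.Hom.comp_base, TopCat.coe_comp, Set.range_comp, e.hom.surjective.range_eq, Set.image_univ]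
    exact (range_comap_of_surjective _ _ Ideal.Quotient.mk_surjective).trans (by rw [Ideal.mk_ker])
  have h4 : (Set.range i)ᶜ = (Scheme.homeoOfIso V.isoSpec) ⁻¹' (Set.range (i ≫ V.isoSpec.hom))ᶜ := by
    rw [Set.preimage_compl, Scheme.Hom.comp_base, TopCat.coe_comp, Set.range_comp]
    exact congrArg compl ((Scheme.homeoOfIso V.isoSpec).injective.preimage_image _).symm
  rw [h4, (Scheme.homeoOfIso V.isoSpec).isCompact_preimage, h3]
  exact h2

end GlueSepLib
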